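import Mathlib.Algebra.QuadraticAlgebra.Basic
import Mathlib.Data.Matrix.Mul
import Mathlib.LinearAlgebra.Matrix.Notation

/-! Data for the action of `PSU₄(3)` on 112 points, on the lattice side and on the unitary side. -/

set_option autoImplicit false
set_option maxRecDepth 10000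

namespace CfsgLib.McLUnit

/-- The field of 9 elements, computably. -/
abbrev R9 : Type := QuadraticAlgebra (ZMod 3) 2 0

/-- 4 by 4 matrices over it. -/
abbrev M9 : Type := Matrix (Fin 4) (Fin 4) R9

/-- 2 by 2 matrices over it. -/
abbrev C9 : Type := Matrix (Fin 2) (Fin 2) R9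

/-- First matrix. -/
def matR : M9 := !![⟨2, 0⟩, ⟨0, 2⟩, ⟨2, 2⟩, ⟨0, 0⟩; ⟨0, 2⟩, ⟨2, 2⟩, ⟨2, 2⟩, ⟨2, 1⟩; ⟨1, 0⟩, ⟨1, 2⟩, ⟨1, 2⟩, ⟨1, 1⟩; ⟨0, 2⟩, ⟨1, 2⟩, ⟨1, 0⟩, ⟨0, 0⟩]

/-- Second matrix. -/
def matH : M9 := !![⟨1, 1⟩, ⟨1, 1⟩, ⟨1, 1⟩, ⟨1, 0⟩; ⟨0, 0⟩, ⟨0, 1⟩, ⟨1, 1⟩, ⟨0, 2⟩; ⟨0, 2⟩, ⟨2, 1⟩, ⟨1, 2⟩, ⟨1, 1⟩; ⟨0, 1⟩, ⟨2, 2⟩, ⟨1, 0⟩, ⟨0, 0⟩]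

def permRChunk : Fin 14 → Fin 8 → Fin 112 := ![
  ![1, 3, 5, 7, 9, 11, 13, 15],
  ![17, 19, 21, 23, 24, 26, 28, 30],
  ![32, 33, 35, 37, 39, 41, 42, 44],
  ![46, 0, 49, 51, 53, 45, 25, 56],
  ![58, 20, 57, 62, 63, 65, 66, 40],
  ![50, 70, 71, 6, 74, 18, 77, 73],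
  ![79, 38, 8, 81, 83, 12, 22, 86],
  ![29, 60, 80, 27, 87, 34, 31, 61],
  ![89, 90, 43, 92, 93, 94, 95, 48],
  ![47, 75, 96, 97, 84, 14, 59, 98],
  ![88, 64, 101, 102, 69, 103, 100, 36],
  ![68, 78, 106, 104, 52, 16, 85, 91],
  ![2, 82, 54, 76, 108, 72, 110, 99],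
  ![10, 107, 4, 111, 105, 67, 109, 55]]

/-- The first permutation. -/
def permR (i : Fin 112) : Fin 112 := permRChunk ⟨i.1 / 8, by omega⟩ ⟨i.1 % 8, by omega⟩

def permHChunk : Fin 14 → Fin 8 → Fin 112 := ![
  ![2, 4, 6, 8, 10, 12, 14, 16],
  ![18, 20, 22, 15, 25, 27, 29, 31],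
  ![32, 34, 36, 38, 40, 26, 43, 45],
  ![47, 48, 50, 52, 54, 55, 33, 57],
  ![59, 60, 61, 62, 64, 35, 67, 68],
  ![69, 42, 72, 73, 75, 76, 78, 1],
  ![44, 56, 80, 82, 37, 84, 85, 63],
  ![53, 17, 41, 7, 46, 74, 88, 83],
  ![89, 91, 86, 71, 5, 9, 51, 95],
  ![90, 24, 11, 39, 98, 99, 100, 101],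
  ![21, 70, 96, 0, 49, 104, 92, 94],
  ![103, 105, 106, 97, 102, 107, 30, 108],
  ![93, 109, 66, 19, 87, 58, 23, 13],
  ![65, 111, 79, 110, 77, 28, 81, 3]]

/-- The second permutation. -/
def permH (i : Fin 112) : Fin 112 := permHChunk ⟨i.1 / 8, by omega⟩ ⟨i.1 % 8, by omega⟩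

def permRInvChunk : Fin 14 → Fin 8 → Fin 112 := ![
  ![25, 0, 96, 1, 106, 2, 43, 3],
  ![50, 4, 104, 5, 53, 6, 77, 7],
  ![93, 8, 45, 9, 33, 10, 54, 11],
  ![12, 30, 13, 59, 14, 56, 15, 62],
  ![16, 17, 61, 18, 87, 19, 49, 20],
  ![39, 21, 22, 66, 23, 29, 24, 72],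
  ![71, 26, 40, 27, 92, 28, 98, 111],
  ![31, 34, 32, 78, 57, 63, 35, 36],
  ![81, 37, 38, 109, 88, 84, 41, 42],
  ![101, 47, 44, 73, 99, 46, 89, 48],
  ![58, 51, 97, 52, 76, 94, 55, 60],
  ![80, 64, 65, 95, 67, 68, 69, 70],
  ![74, 75, 79, 103, 86, 82, 83, 85],
  ![91, 108, 90, 105, 100, 110, 102, 107]]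

/-- Its inverse. -/
def permRInv (i : Fin 112) : Fin 112 := permRInvChunk ⟨i.1 / 8, by omega⟩ ⟨i.1 % 8, by omega⟩

def permHInvChunk : Fin 14 → Fin 8 → Fin 112 := ![
  ![83, 47, 0, 111, 1, 68, 2, 59],
  ![3, 69, 4, 74, 5, 103, 6, 11],
  ![7, 57, 8, 99, 9, 80, 10, 102],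
  ![73, 12, 21, 13, 109, 14, 94, 15],
  ![16, 30, 17, 37, 18, 52, 19, 75],
  ![20, 58, 41, 22, 48, 23, 60, 24],
  ![25, 84, 26, 70, 27, 56, 28, 29],
  ![49, 31, 101, 32, 33, 34, 35, 55],
  ![36, 104, 98, 38, 39, 40, 81, 67],
  ![42, 43, 61, 44, 45, 108, 46, 106],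
  ![50, 110, 51, 63, 53, 54, 66, 100],
  ![62, 64, 72, 65, 86, 96, 87, 71],
  ![82, 91, 76, 77, 78, 79, 92, 88],
  ![85, 89, 90, 93, 95, 97, 107, 105]]

/-- Its inverse. -/
def permHInv (i : Fin 112) : Fin 112 := permHInvChunk ⟨i.1 / 8, by omega⟩ ⟨i.1 % 8, by omega⟩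

def lineBasisChunk : Fin 14 → Fin 8 → Matrix (Fin 4) (Fin 2) R9 := ![
  ![!![⟨0, 0⟩, ⟨1, 0⟩; ⟨0, 0⟩, ⟨1, 1⟩; ⟨1, 0⟩, ⟨0, 0⟩; ⟨1, 1⟩, ⟨0, 0⟩], !![⟨0, 0⟩, ⟨1, 0⟩; ⟨1, 0⟩, ⟨0, 0⟩; ⟨2, 1⟩, ⟨0, 0⟩; ⟨0, 0⟩, ⟨1, 2⟩], !![⟨0, 0⟩, ⟨1, 0⟩; ⟨0, 0⟩, ⟨2, 1⟩; ⟨1, 0⟩, ⟨0, 0⟩; ⟨2, 1⟩, ⟨0, 0⟩], !![⟨0, 0⟩, ⟨1, 0⟩; ⟨1, 0⟩, ⟨0, 0⟩; ⟨0, 2⟩, ⟨1, 0⟩; ⟨1, 0⟩, ⟨0, 2⟩], !![⟨0, 0⟩, ⟨1, 0⟩; ⟨1, 0⟩, ⟨0, 0⟩; ⟨0, 2⟩, ⟨0, 2⟩; ⟨2, 0⟩, ⟨1, 0⟩], !![⟨0, 0⟩, ⟨1, 0⟩; ⟨0, 0⟩, ⟨2, 1⟩; ⟨1, 0⟩, ⟨0, 0⟩; ⟨1, 2⟩, ⟨0, 0⟩], !![⟨0, 0⟩, ⟨1, 0⟩; ⟨1, 0⟩, ⟨0, 0⟩; ⟨0, 2⟩, ⟨2,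 0⟩; ⟨0, 1⟩, ⟨2, 0⟩], !![⟨0, 0⟩, ⟨1, 0⟩; ⟨1, 0⟩, ⟨0, 0⟩; ⟨0, 2⟩, ⟨0, 1⟩; ⟨0, 2⟩, ⟨0, 2⟩]],
  ![!![⟨0, 0⟩, ⟨1, 0⟩; ⟨1, 0⟩, ⟨0, 0⟩; ⟨2, 0⟩, ⟨1, 0⟩; ⟨2, 0⟩, ⟨2, 0⟩], !![⟨0, 0⟩, ⟨1, 0⟩; ⟨1, 0⟩, ⟨0, 0⟩; ⟨2, 1⟩, ⟨0, 0⟩; ⟨0, 0⟩, ⟨2, 2⟩], !![⟨0, 0⟩, ⟨1, 0⟩; ⟨1, 0⟩, ⟨0, 0⟩; ⟨1, 1⟩, ⟨0, 0⟩; ⟨0, 0⟩, ⟨2, 1⟩], !![⟨0, 0⟩, ⟨1, 0⟩; ⟨1, 0⟩, ⟨0, 0⟩; ⟨0, 0⟩, ⟨2, 2⟩; ⟨1, 1⟩, ⟨0, 0⟩], !![⟨0, 0⟩, ⟨1, 0⟩; ⟨1, 0⟩, ⟨0, 0⟩; ⟨2, 0⟩, ⟨0, 1⟩; ⟨0, 1⟩, ⟨2, 0⟩], !![⟨0, 0⟩, ⟨1, 0⟩; ⟨1, 0⟩, ⟨0, 0⟩; ⟨1, 0⟩, ⟨1, 0⟩; ⟨0, 1⟩, ⟨0, 2⟩], !![⟨0, 0⟩, ⟨1, 0⟩; ⟨1, 0⟩,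 ⟨0, 0⟩; ⟨0, 0⟩, ⟨2, 1⟩; ⟨1, 2⟩, ⟨0, 0⟩], !![⟨0, 0⟩, ⟨1, 0⟩; ⟨0, 0⟩, ⟨1, 2⟩; ⟨1, 0⟩, ⟨0, 0⟩; ⟨1, 1⟩, ⟨0, 0⟩]],
  ![!![⟨0, 0⟩, ⟨1, 0⟩; ⟨1, 0⟩, ⟨0, 0⟩; ⟨0, 1⟩, ⟨1, 0⟩; ⟨2, 0⟩, ⟨0, 2⟩], !![⟨0, 0⟩, ⟨1, 0⟩; ⟨1, 0⟩, ⟨0, 0⟩; ⟨2, 0⟩, ⟨0, 1⟩; ⟨0, 2⟩, ⟨1, 0⟩], !![⟨0, 0⟩, ⟨1, 0⟩; ⟨1, 0⟩, ⟨0, 0⟩; ⟨1, 0⟩, ⟨2, 0⟩; ⟨0, 2⟩, ⟨0, 2⟩], !![⟨0, 0⟩, ⟨1, 0⟩; ⟨1, 0⟩, ⟨0, 0⟩; ⟨0, 2⟩, ⟨1, 0⟩; ⟨0, 1⟩, ⟨1, 0⟩], !![⟨0, 0⟩, ⟨1, 0⟩; ⟨1, 0⟩, ⟨0, 0⟩; ⟨0, 0⟩, ⟨2, 2⟩; ⟨2, 1⟩, ⟨0, 0⟩], !![⟨0, 0⟩, ⟨1, 0⟩; ⟨1, 0⟩, ⟨0, 0⟩; ⟨0, 1⟩, ⟨1, 0⟩; ⟨1, 0⟩, ⟨0, 1⟩], !![⟨0,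 0⟩, ⟨1, 0⟩; ⟨1, 0⟩, ⟨0, 0⟩; ⟨0, 0⟩, ⟨1, 1⟩; ⟨2, 2⟩, ⟨0, 0⟩], !![⟨0, 0⟩, ⟨1, 0⟩; ⟨1, 0⟩, ⟨0, 0⟩; ⟨0, 0⟩, ⟨2, 1⟩; ⟨1, 1⟩, ⟨0, 0⟩]],
  ![!![⟨0, 0⟩, ⟨1, 0⟩; ⟨1, 0⟩, ⟨0, 0⟩; ⟨1, 0⟩, ⟨0, 2⟩; ⟨0, 1⟩, ⟨2, 0⟩], !![⟨0, 0⟩, ⟨1, 0⟩; ⟨1, 0⟩, ⟨0, 0⟩; ⟨2, 2⟩, ⟨0, 0⟩; ⟨0, 0⟩, ⟨2, 2⟩], !![⟨0, 0⟩, ⟨1, 0⟩; ⟨1, 0⟩, ⟨0, 0⟩; ⟨0, 1⟩, ⟨2, 0⟩; ⟨2, 0⟩, ⟨0, 1⟩], !![⟨0, 0⟩, ⟨1, 0⟩; ⟨1, 0⟩, ⟨0, 0⟩; ⟨1, 0⟩, ⟨0, 1⟩; ⟨0, 1⟩, ⟨1, 0⟩], !![⟨0, 0⟩, ⟨1, 0⟩; ⟨0, 0⟩, ⟨2, 2⟩; ⟨1, 0⟩, ⟨0, 0⟩; ⟨1, 1⟩, ⟨0, 0⟩], !![⟨0, 0⟩, ⟨1, 0⟩; ⟨1, 0⟩, ⟨0, 0⟩; ⟨2, 0⟩, ⟨0, 2⟩; ⟨0,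 1⟩, ⟨1, 0⟩], !![⟨0, 0⟩, ⟨1, 0⟩; ⟨1, 0⟩, ⟨0, 0⟩; ⟨0, 2⟩, ⟨0, 2⟩; ⟨1, 0⟩, ⟨2, 0⟩], !![⟨0, 0⟩, ⟨1, 0⟩; ⟨1, 0⟩, ⟨0, 0⟩; ⟨2, 2⟩, ⟨0, 0⟩; ⟨0, 0⟩, ⟨1, 2⟩]],
  ![!![⟨0, 0⟩, ⟨1, 0⟩; ⟨0, 0⟩, ⟨2, 1⟩; ⟨1, 0⟩, ⟨0, 0⟩; ⟨2, 2⟩, ⟨0, 0⟩], !![⟨0, 0⟩, ⟨1, 0⟩; ⟨1, 0⟩, ⟨0, 0⟩; ⟨2, 0⟩, ⟨2, 0⟩; ⟨2, 0⟩, ⟨1, 0⟩], !![⟨0, 0⟩, ⟨1, 0⟩; ⟨1, 0⟩, ⟨0, 0⟩; ⟨0, 1⟩, ⟨0, 2⟩; ⟨1, 0⟩, ⟨1, 0⟩], !![⟨0, 0⟩, ⟨1, 0⟩; ⟨1, 0⟩, ⟨0, 0⟩; ⟨0, 2⟩, ⟨2, 0⟩; ⟨2, 0⟩, ⟨0, 2⟩], !![⟨0, 0⟩, ⟨1, 0⟩; ⟨1, 0⟩, ⟨0, 0⟩; ⟨0, 2⟩, ⟨0, 1⟩; ⟨0, 1⟩, ⟨0, 1⟩], !![⟨0, 0⟩, ⟨1, 0⟩; ⟨1, 0⟩, ⟨0, 0⟩;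 ⟨0, 2⟩, ⟨0, 1⟩; ⟨2, 0⟩, ⟨2, 0⟩], !![⟨0, 0⟩, ⟨1, 0⟩; ⟨1, 0⟩, ⟨0, 0⟩; ⟨2, 0⟩, ⟨1, 0⟩; ⟨0, 1⟩, ⟨0, 1⟩], !![⟨0, 0⟩, ⟨1, 0⟩; ⟨1, 0⟩, ⟨0, 0⟩; ⟨1, 0⟩, ⟨1, 0⟩; ⟨2, 0⟩, ⟨1, 0⟩]],
  ![!![⟨0, 0⟩, ⟨1, 0⟩; ⟨1, 0⟩, ⟨0, 0⟩; ⟨0, 1⟩, ⟨0, 2⟩; ⟨2, 0⟩, ⟨2, 0⟩], !![⟨0, 0⟩, ⟨1, 0⟩; ⟨1, 0⟩, ⟨0, 0⟩; ⟨0, 0⟩, ⟨2, 2⟩; ⟨1, 2⟩, ⟨0, 0⟩], !![⟨0, 0⟩, ⟨1, 0⟩; ⟨1, 0⟩, ⟨0, 0⟩; ⟨2, 2⟩, ⟨0, 0⟩; ⟨0, 0⟩, ⟨1, 1⟩], !![⟨0, 0⟩, ⟨1, 0⟩; ⟨1, 0⟩, ⟨0, 0⟩; ⟨1, 0⟩, ⟨2, 0⟩; ⟨1, 0⟩, ⟨1, 0⟩], !![⟨0, 0⟩, ⟨1, 0⟩; ⟨1, 0⟩, ⟨0, 0⟩; ⟨2, 0⟩, ⟨0, 1⟩; ⟨1, 0⟩, ⟨0, 1⟩], !![⟨0, 0⟩, ⟨1,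 0⟩; ⟨1, 0⟩, ⟨0, 0⟩; ⟨0, 0⟩, ⟨2, 1⟩; ⟨2, 2⟩, ⟨0, 0⟩], !![⟨0, 0⟩, ⟨1, 0⟩; ⟨1, 0⟩, ⟨0, 0⟩; ⟨1, 0⟩, ⟨2, 0⟩; ⟨0, 1⟩, ⟨0, 1⟩], !![⟨0, 0⟩, ⟨1, 0⟩; ⟨1, 0⟩, ⟨0, 0⟩; ⟨2, 0⟩, ⟨2, 0⟩; ⟨1, 0⟩, ⟨2, 0⟩]],
  ![!![⟨0, 0⟩, ⟨1, 0⟩; ⟨1, 0⟩, ⟨0, 0⟩; ⟨0, 0⟩, ⟨1, 2⟩; ⟨2, 1⟩, ⟨0, 0⟩], !![⟨0, 0⟩, ⟨1, 0⟩; ⟨1, 0⟩, ⟨0, 0⟩; ⟨1, 2⟩, ⟨0, 0⟩; ⟨0, 0⟩, ⟨2, 1⟩], !![⟨0, 0⟩, ⟨1, 0⟩; ⟨1, 0⟩, ⟨0, 0⟩; ⟨0, 1⟩, ⟨1, 0⟩; ⟨0, 2⟩, ⟨1, 0⟩], !![⟨0, 0⟩, ⟨1, 0⟩; ⟨1, 0⟩, ⟨0, 0⟩; ⟨2, 0⟩, ⟨2, 0⟩; ⟨0, 2⟩, ⟨0, 1⟩], !![⟨0, 0⟩, ⟨1, 0⟩; ⟨0, 0⟩, ⟨1, 1⟩; ⟨1, 0⟩, ⟨0, 0⟩; ⟨1, 2⟩, ⟨0,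 0⟩], !![⟨0, 0⟩, ⟨1, 0⟩; ⟨0, 0⟩, ⟨2, 2⟩; ⟨1, 0⟩, ⟨0, 0⟩; ⟨2, 1⟩, ⟨0, 0⟩], !![⟨0, 0⟩, ⟨1, 0⟩; ⟨1, 0⟩, ⟨0, 0⟩; ⟨0, 1⟩, ⟨0, 1⟩; ⟨0, 2⟩, ⟨0, 1⟩], !![⟨0, 0⟩, ⟨1, 0⟩; ⟨1, 0⟩, ⟨0, 0⟩; ⟨1, 1⟩, ⟨0, 0⟩; ⟨0, 0⟩, ⟨2, 2⟩]],
  ![!![⟨0, 0⟩, ⟨1, 0⟩; ⟨1, 0⟩, ⟨0, 0⟩; ⟨2, 0⟩, ⟨0, 2⟩; ⟨1, 0⟩, ⟨0, 2⟩], !![⟨0, 0⟩, ⟨1, 0⟩; ⟨1, 0⟩, ⟨0, 0⟩; ⟨0, 1⟩, ⟨2, 0⟩; ⟨0, 2⟩, ⟨2, 0⟩], !![⟨0, 0⟩, ⟨1, 0⟩; ⟨1, 0⟩, ⟨0, 0⟩; ⟨2, 0⟩, ⟨1, 0⟩; ⟨0, 2⟩, ⟨0, 2⟩], !![⟨0, 0⟩, ⟨1, 0⟩; ⟨1, 0⟩, ⟨0, 0⟩; ⟨0, 1⟩, ⟨1, 0⟩; ⟨0, 1⟩, ⟨2, 0⟩], !![⟨0, 0⟩, ⟨1, 0⟩; ⟨1, 0⟩, ⟨0, 0⟩; ⟨2, 1⟩,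 ⟨0, 0⟩; ⟨0, 0⟩, ⟨2, 1⟩], !![⟨0, 0⟩, ⟨1, 0⟩; ⟨1, 0⟩, ⟨0, 0⟩; ⟨1, 1⟩, ⟨0, 0⟩; ⟨0, 0⟩, ⟨1, 1⟩], !![⟨0, 0⟩, ⟨1, 0⟩; ⟨0, 0⟩, ⟨1, 1⟩; ⟨1, 0⟩, ⟨0, 0⟩; ⟨2, 2⟩, ⟨0, 0⟩], !![⟨0, 0⟩, ⟨1, 0⟩; ⟨1, 0⟩, ⟨0, 0⟩; ⟨0, 0⟩, ⟨1, 1⟩; ⟨2, 1⟩, ⟨0, 0⟩]],
  ![!![⟨0, 0⟩, ⟨1, 0⟩; ⟨1, 0⟩, ⟨0, 0⟩; ⟨1, 0⟩, ⟨0, 2⟩; ⟨2, 0⟩, ⟨0, 2⟩], !![⟨0, 0⟩, ⟨1, 0⟩; ⟨1, 0⟩, ⟨0, 0⟩; ⟨1, 0⟩, ⟨0, 2⟩; ⟨0, 2⟩, ⟨1, 0⟩], !![⟨0, 0⟩, ⟨1, 0⟩; ⟨0, 0⟩, ⟨2, 2⟩; ⟨1, 0⟩, ⟨0, 0⟩; ⟨1, 2⟩, ⟨0, 0⟩], !![⟨0, 0⟩, ⟨1, 0⟩; ⟨1, 0⟩, ⟨0, 0⟩; ⟨1, 2⟩, ⟨0, 0⟩; ⟨0, 0⟩, ⟨2, 2⟩], !![⟨0, 0⟩, ⟨1, 0⟩; ⟨1,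 0⟩, ⟨0, 0⟩; ⟨2, 2⟩, ⟨0, 0⟩; ⟨0, 0⟩, ⟨2, 1⟩], !![⟨0, 0⟩, ⟨1, 0⟩; ⟨1, 0⟩, ⟨0, 0⟩; ⟨2, 0⟩, ⟨2, 0⟩; ⟨0, 1⟩, ⟨0, 2⟩], !![⟨0, 0⟩, ⟨1, 0⟩; ⟨1, 0⟩, ⟨0, 0⟩; ⟨2, 0⟩, ⟨0, 2⟩; ⟨0, 2⟩, ⟨2, 0⟩], !![⟨0, 0⟩, ⟨1, 0⟩; ⟨1, 0⟩, ⟨0, 0⟩; ⟨0, 0⟩, ⟨2, 1⟩; ⟨2, 1⟩, ⟨0, 0⟩]],
  ![!![⟨0, 0⟩, ⟨1, 0⟩; ⟨1, 0⟩, ⟨0, 0⟩; ⟨0, 2⟩, ⟨0, 1⟩; ⟨1, 0⟩, ⟨1, 0⟩], !![⟨0, 0⟩, ⟨1, 0⟩; ⟨0, 0⟩, ⟨2, 1⟩; ⟨1, 0⟩, ⟨0, 0⟩; ⟨1, 1⟩, ⟨0, 0⟩], !![⟨0, 0⟩, ⟨1, 0⟩; ⟨1, 0⟩, ⟨0, 0⟩; ⟨0, 0⟩, ⟨1, 1⟩; ⟨1, 2⟩, ⟨0, 0⟩], !![⟨0, 0⟩, ⟨1, 0⟩; ⟨1, 0⟩, ⟨0, 0⟩; ⟨1, 0⟩, ⟨0, 1⟩; ⟨2, 0⟩, ⟨0, 1⟩], !![⟨0,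 0⟩, ⟨1, 0⟩; ⟨1, 0⟩, ⟨0, 0⟩; ⟨1, 0⟩, ⟨1, 0⟩; ⟨1, 0⟩, ⟨2, 0⟩], !![⟨0, 0⟩, ⟨1, 0⟩; ⟨1, 0⟩, ⟨0, 0⟩; ⟨0, 2⟩, ⟨2, 0⟩; ⟨1, 0⟩, ⟨0, 1⟩], !![⟨0, 0⟩, ⟨1, 0⟩; ⟨1, 0⟩, ⟨0, 0⟩; ⟨0, 0⟩, ⟨1, 2⟩; ⟨2, 2⟩, ⟨0, 0⟩], !![⟨0, 0⟩, ⟨1, 0⟩; ⟨1, 0⟩, ⟨0, 0⟩; ⟨0, 1⟩, ⟨0, 2⟩; ⟨0, 1⟩, ⟨0, 1⟩]],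
  ![!![⟨0, 0⟩, ⟨1, 0⟩; ⟨1, 0⟩, ⟨0, 0⟩; ⟨0, 0⟩, ⟨1, 2⟩; ⟨1, 1⟩, ⟨0, 0⟩], !![⟨0, 0⟩, ⟨1, 0⟩; ⟨1, 0⟩, ⟨0, 0⟩; ⟨1, 0⟩, ⟨0, 1⟩; ⟨0, 2⟩, ⟨2, 0⟩], !![⟨0, 0⟩, ⟨1, 0⟩; ⟨1, 0⟩, ⟨0, 0⟩; ⟨2, 1⟩, ⟨0, 0⟩; ⟨0, 0⟩, ⟨1, 1⟩], !![⟨0, 0⟩, ⟨1, 0⟩; ⟨1, 0⟩, ⟨0, 0⟩; ⟨1, 2⟩, ⟨0, 0⟩; ⟨0, 0⟩, ⟨1, 2⟩], !![⟨0, 0⟩, ⟨1, 0⟩; ⟨1, 0⟩, ⟨0, 0⟩; ⟨0, 1⟩, ⟨0, 1⟩; ⟨2, 0⟩, ⟨1, 0⟩], !![⟨0, 0⟩, ⟨1, 0⟩; ⟨1, 0⟩, ⟨0, 0⟩; ⟨1, 0⟩, ⟨2, 0⟩; ⟨2, 0⟩, ⟨2, 0⟩], !![⟨0, 0⟩, ⟨1, 0⟩; ⟨1, 0⟩, ⟨0, 0⟩; ⟨0, 1⟩, ⟨0, 1⟩; ⟨1, 0⟩, ⟨2, 0⟩], !![⟨0, 0⟩, ⟨1, 0⟩; ⟨1, 0⟩, ⟨0, 0⟩; ⟨0, 2⟩, ⟨1,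 0⟩; ⟨2, 0⟩, ⟨0, 1⟩]],
  ![!![⟨0, 0⟩, ⟨1, 0⟩; ⟨1, 0⟩, ⟨0, 0⟩; ⟨0, 1⟩, ⟨2, 0⟩; ⟨0, 1⟩, ⟨1, 0⟩], !![⟨0, 0⟩, ⟨1, 0⟩; ⟨0, 0⟩, ⟨2, 2⟩; ⟨1, 0⟩, ⟨0, 0⟩; ⟨2, 2⟩, ⟨0, 0⟩], !![⟨0, 0⟩, ⟨1, 0⟩; ⟨1, 0⟩, ⟨0, 0⟩; ⟨2, 0⟩, ⟨0, 1⟩; ⟨2, 0⟩, ⟨0, 2⟩], !![⟨0, 0⟩, ⟨1, 0⟩; ⟨1, 0⟩, ⟨0, 0⟩; ⟨1, 1⟩, ⟨0, 0⟩; ⟨0, 0⟩, ⟨1, 2⟩], !![⟨0, 0⟩, ⟨1, 0⟩; ⟨1, 0⟩, ⟨0, 0⟩; ⟨0, 0⟩, ⟨2, 2⟩; ⟨2, 2⟩, ⟨0, 0⟩], !![⟨0, 0⟩, ⟨1, 0⟩; ⟨1, 0⟩, ⟨0, 0⟩; ⟨1, 0⟩, ⟨1, 0⟩; ⟨0, 2⟩, ⟨0, 1⟩], !![⟨0, 0⟩, ⟨1, 0⟩; ⟨1, 0⟩, ⟨0, 0⟩; ⟨2, 0⟩, ⟨1, 0⟩; ⟨1, 0⟩, ⟨1, 0⟩], !![⟨0, 0⟩, ⟨1, 0⟩; ⟨0, 0⟩,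 ⟨1, 1⟩; ⟨1, 0⟩, ⟨0, 0⟩; ⟨2, 1⟩, ⟨0, 0⟩]],
  ![!![⟨0, 0⟩, ⟨1, 0⟩; ⟨1, 0⟩, ⟨0, 0⟩; ⟨1, 2⟩, ⟨0, 0⟩; ⟨0, 0⟩, ⟨1, 1⟩], !![⟨0, 0⟩, ⟨1, 0⟩; ⟨1, 0⟩, ⟨0, 0⟩; ⟨0, 0⟩, ⟨1, 1⟩; ⟨1, 1⟩, ⟨0, 0⟩], !![⟨0, 0⟩, ⟨1, 0⟩; ⟨1, 0⟩, ⟨0, 0⟩; ⟨0, 1⟩, ⟨0, 2⟩; ⟨0, 2⟩, ⟨0, 2⟩], !![⟨0, 0⟩, ⟨1, 0⟩; ⟨1, 0⟩, ⟨0, 0⟩; ⟨2, 0⟩, ⟨0, 2⟩; ⟨2, 0⟩, ⟨0, 1⟩], !![⟨0, 0⟩, ⟨1, 0⟩; ⟨1, 0⟩, ⟨0, 0⟩; ⟨1, 0⟩, ⟨0, 2⟩; ⟨1, 0⟩, ⟨0, 1⟩], !![⟨0, 0⟩, ⟨1, 0⟩; ⟨1, 0⟩, ⟨0, 0⟩; ⟨0, 2⟩, ⟨1, 0⟩; ⟨0, 2⟩, ⟨2, 0⟩], !![⟨0, 0⟩, ⟨1, 0⟩; ⟨1, 0⟩, ⟨0, 0⟩; ⟨1, 0⟩, ⟨0, 1⟩; ⟨1, 0⟩, ⟨0, 2⟩], !![⟨0,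 0⟩, ⟨1, 0⟩; ⟨1, 0⟩, ⟨0, 0⟩; ⟨0, 2⟩, ⟨2, 0⟩; ⟨0, 2⟩, ⟨1, 0⟩]],
  ![!![⟨0, 0⟩, ⟨1, 0⟩; ⟨1, 0⟩, ⟨0, 0⟩; ⟨0, 1⟩, ⟨2, 0⟩; ⟨1, 0⟩, ⟨0, 2⟩], !![⟨0, 0⟩, ⟨1, 0⟩; ⟨1, 0⟩, ⟨0, 0⟩; ⟨0, 1⟩, ⟨0, 1⟩; ⟨0, 1⟩, ⟨0, 2⟩], !![⟨0, 0⟩, ⟨1, 0⟩; ⟨0, 0⟩, ⟨1, 2⟩; ⟨1, 0⟩, ⟨0, 0⟩; ⟨2, 2⟩, ⟨0, 0⟩], !![⟨0, 0⟩, ⟨1, 0⟩; ⟨0, 0⟩, ⟨1, 2⟩; ⟨1, 0⟩, ⟨0, 0⟩; ⟨2, 1⟩, ⟨0, 0⟩], !![⟨0, 0⟩, ⟨1, 0⟩; ⟨1, 0⟩, ⟨0, 0⟩; ⟨0, 0⟩, ⟨1, 2⟩; ⟨1, 2⟩, ⟨0, 0⟩], !![⟨0, 0⟩, ⟨1, 0⟩; ⟨1, 0⟩, ⟨0, 0⟩; ⟨0, 2⟩, ⟨0, 2⟩; ⟨0, 1⟩, ⟨0, 2⟩], !![⟨0, 0⟩, ⟨1, 0⟩; ⟨0, 0⟩, ⟨1, 2⟩; ⟨1, 0⟩, ⟨0, 0⟩; ⟨1,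 2⟩, ⟨0, 0⟩], !![⟨0, 0⟩, ⟨1, 0⟩; ⟨1, 0⟩, ⟨0, 0⟩; ⟨0, 2⟩, ⟨0, 2⟩; ⟨0, 2⟩, ⟨0, 1⟩]]]

/-- Bases of the lines. -/
def lineBasis (i : Fin 112) : Matrix (Fin 4) (Fin 2) R9 := lineBasisChunk ⟨i.1 / 8, by omega⟩ ⟨i.1 % 8, by omega⟩

def certRChunk : Fin 14 → Fin 8 → C9 × C9 := ![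
  ![(!![⟨0, 2⟩, ⟨0, 0⟩; ⟨2, 2⟩, ⟨0, 2⟩], !![⟨0, 1⟩, ⟨0, 0⟩; ⟨2, 2⟩, ⟨0, 1⟩]), (!![⟨1, 2⟩, ⟨0, 1⟩; ⟨2, 2⟩, ⟨2, 0⟩], !![⟨1, 1⟩, ⟨2, 1⟩; ⟨0, 1⟩, ⟨1, 0⟩]), (!![⟨2, 2⟩, ⟨1, 2⟩; ⟨2, 2⟩, ⟨0, 1⟩], !![⟨2, 0⟩, ⟨2, 2⟩; ⟨2, 1⟩, ⟨1, 2⟩]), (!![⟨0, 1⟩, ⟨0, 2⟩; ⟨2, 0⟩, ⟨1, 2⟩], !![⟨1, 2⟩, ⟨0, 1⟩; ⟨1, 0⟩, ⟨0, 1⟩]), (!![⟨2, 2⟩, ⟨1, 1⟩; ⟨2, 0⟩, ⟨1, 1⟩], !![⟨0, 1⟩, ⟨0, 2⟩; ⟨2, 2⟩, ⟨0, 2⟩]), (!![⟨2, 1⟩, ⟨2, 2⟩; ⟨2, 2⟩, ⟨0, 1⟩], !![⟨0, 2⟩, ⟨2, 2⟩; ⟨2, 2⟩, ⟨1, 2⟩]), (!![⟨0, 2⟩, ⟨2, 2⟩; ⟨2, 0⟩, ⟨0, 1⟩], !![⟨2, 0⟩, ⟨2, 1⟩; ⟨0, 1⟩, ⟨1, 0⟩]), (!![⟨1,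 0⟩, ⟨0, 0⟩; ⟨2, 0⟩, ⟨0, 2⟩], !![⟨1, 0⟩, ⟨0, 0⟩; ⟨0, 1⟩, ⟨0, 1⟩])],
  ![(!![⟨1, 2⟩, ⟨0, 0⟩; ⟨1, 0⟩, ⟨1, 2⟩], !![⟨2, 2⟩, ⟨0, 0⟩; ⟨0, 1⟩, ⟨2, 2⟩]), (!![⟨1, 2⟩, ⟨2, 2⟩; ⟨2, 2⟩, ⟨2, 0⟩], !![⟨2, 1⟩, ⟨2, 0⟩; ⟨2, 0⟩, ⟨0, 1⟩]), (!![⟨2, 0⟩, ⟨0, 0⟩; ⟨0, 0⟩, ⟨2, 0⟩], !![⟨2, 0⟩, ⟨0, 0⟩; ⟨0, 0⟩, ⟨2, 0⟩]), (!![⟨0, 2⟩, ⟨0, 1⟩; ⟨0, 2⟩, ⟨2, 2⟩], !![⟨2, 0⟩, ⟨1, 1⟩; ⟨2, 2⟩, ⟨1, 1⟩]), (!![⟨2, 2⟩, ⟨2, 0⟩; ⟨1, 0⟩, ⟨0, 2⟩], !![⟨2, 0⟩, ⟨0, 2⟩; ⟨0, 1⟩, ⟨2, 1⟩]), (!![⟨0, 0⟩, ⟨0, 2⟩; ⟨2, 1⟩, ⟨1, 2⟩], !![⟨0, 1⟩, ⟨1, 1⟩; ⟨0, 1⟩, ⟨0, 0⟩]), (!![⟨0, 2⟩,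 ⟨1, 2⟩; ⟨0, 2⟩, ⟨1, 0⟩], !![⟨1, 0⟩, ⟨2, 1⟩; ⟨0, 1⟩, ⟨0, 2⟩]), (!![⟨0, 2⟩, ⟨1, 2⟩; ⟨2, 2⟩, ⟨1, 2⟩], !![⟨1, 0⟩, ⟨2, 0⟩; ⟨0, 1⟩, ⟨2, 1⟩])],
  ![(!![⟨1, 2⟩, ⟨0, 1⟩; ⟨1, 1⟩, ⟨1, 2⟩], !![⟨1, 2⟩, ⟨0, 2⟩; ⟨2, 2⟩, ⟨1, 2⟩]), (!![⟨1, 1⟩, ⟨0, 2⟩; ⟨1, 0⟩, ⟨0, 2⟩], !![⟨0, 2⟩, ⟨0, 1⟩; ⟨2, 0⟩, ⟨1, 1⟩]), (!![⟨2, 2⟩, ⟨2, 1⟩; ⟨2, 1⟩, ⟨0, 1⟩], !![⟨2, 2⟩, ⟨0, 2⟩; ⟨0, 2⟩, ⟨2, 0⟩]), (!![⟨0, 2⟩, ⟨1, 2⟩; ⟨2, 0⟩, ⟨1, 2⟩], !![⟨2, 2⟩, ⟨1, 1⟩; ⟨0, 2⟩, ⟨2, 0⟩]), (!![⟨2, 0⟩, ⟨0, 1⟩; ⟨0, 2⟩, ⟨2, 2⟩], !![⟨2, 1⟩, ⟨2, 0⟩; ⟨1, 0⟩, ⟨0, 1⟩]), (!![⟨2, 2⟩, ⟨1,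 0⟩; ⟨1, 1⟩, ⟨1, 2⟩], !![⟨1, 1⟩, ⟨0, 2⟩; ⟨1, 2⟩, ⟨1, 2⟩]), (!![⟨1, 2⟩, ⟨0, 0⟩; ⟨0, 2⟩, ⟨2, 1⟩], !![⟨2, 2⟩, ⟨0, 0⟩; ⟨2, 0⟩, ⟨1, 1⟩]), (!![⟨0, 2⟩, ⟨2, 2⟩; ⟨0, 2⟩, ⟨1, 0⟩], !![⟨2, 1⟩, ⟨1, 0⟩; ⟨2, 2⟩, ⟨1, 1⟩])],
  ![(!![⟨0, 0⟩, ⟨0, 2⟩; ⟨2, 1⟩, ⟨1, 1⟩], !![⟨2, 0⟩, ⟨1, 1⟩; ⟨0, 1⟩, ⟨0, 0⟩]), (!![⟨2, 2⟩, ⟨1, 1⟩; ⟨0, 1⟩, ⟨2, 0⟩], !![⟨1, 0⟩, ⟨1, 1⟩; ⟨0, 1⟩, ⟨1, 1⟩]), (!![⟨1, 0⟩, ⟨0, 2⟩; ⟨1, 1⟩, ⟨0, 1⟩], !![⟨1, 1⟩, ⟨1, 1⟩; ⟨1, 0⟩, ⟨1, 2⟩]), (!![⟨0, 0⟩, ⟨0, 2⟩; ⟨2, 1⟩, ⟨0, 2⟩], !![⟨2, 2⟩, ⟨1, 1⟩; ⟨0, 1⟩, ⟨0, 0⟩]), (!![⟨1, 1⟩, ⟨2, 0⟩;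 ⟨2, 2⟩, ⟨1, 1⟩], !![⟨0, 2⟩, ⟨1, 1⟩; ⟨0, 2⟩, ⟨0, 2⟩]), (!![⟨2, 2⟩, ⟨1, 1⟩; ⟨1, 0⟩, ⟨1, 1⟩], !![⟨2, 2⟩, ⟨1, 1⟩; ⟨1, 0⟩, ⟨1, 1⟩]), (!![⟨0, 1⟩, ⟨0, 2⟩; ⟨2, 0⟩, ⟨1, 1⟩], !![⟨2, 2⟩, ⟨0, 2⟩; ⟨2, 0⟩, ⟨0, 2⟩]), (!![⟨2, 1⟩, ⟨0, 1⟩; ⟨0, 1⟩, ⟨2, 0⟩], !![⟨2, 1⟩, ⟨2, 2⟩; ⟨2, 2⟩, ⟨0, 2⟩])],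
  ![(!![⟨1, 2⟩, ⟨2, 2⟩; ⟨2, 2⟩, ⟨0, 1⟩], !![⟨1, 2⟩, ⟨0, 1⟩; ⟨0, 1⟩, ⟨1, 0⟩]), (!![⟨1, 2⟩, ⟨0, 1⟩; ⟨1, 0⟩, ⟨0, 1⟩], !![⟨0, 1⟩, ⟨0, 2⟩; ⟨2, 0⟩, ⟨1, 2⟩]), (!![⟨2, 2⟩, ⟨1, 1⟩; ⟨1, 1⟩, ⟨1, 1⟩], !![⟨2, 1⟩, ⟨1, 2⟩; ⟨1, 2⟩, ⟨1, 2⟩]), (!![⟨2, 0⟩, ⟨1, 0⟩; ⟨2, 0⟩, ⟨0, 1⟩], !![⟨1, 2⟩, ⟨1, 1⟩; ⟨2, 2⟩, ⟨1, 1⟩]), (!![⟨0, 2⟩, ⟨0, 0⟩; ⟨2, 0⟩, ⟨0, 2⟩], !![⟨0, 1⟩, ⟨0, 0⟩; ⟨2, 0⟩, ⟨0, 1⟩]), (!![⟨2, 2⟩, ⟨2, 0⟩; ⟨2, 0⟩, ⟨0, 2⟩], !![⟨1, 1⟩, ⟨2, 1⟩; ⟨2, 1⟩, ⟨2, 0⟩]), (!![⟨2, 1⟩, ⟨1, 0⟩; ⟨1, 0⟩, ⟨1, 2⟩], !![⟨0, 1⟩, ⟨2, 1⟩; ⟨2, 1⟩, ⟨0, 2⟩]), (!![⟨2,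 0⟩, ⟨1, 2⟩; ⟨2, 1⟩, ⟨1, 2⟩], !![⟨0, 1⟩, ⟨0, 2⟩; ⟨0, 1⟩, ⟨2, 1⟩])],
  ![(!![⟨1, 0⟩, ⟨0, 2⟩; ⟨1, 1⟩, ⟨1, 1⟩], !![⟨2, 1⟩, ⟨2, 0⟩; ⟨1, 2⟩, ⟨0, 1⟩]), (!![⟨2, 1⟩, ⟨0, 1⟩; ⟨0, 2⟩, ⟨2, 2⟩], !![⟨2, 2⟩, ⟨0, 2⟩; ⟨0, 1⟩, ⟨2, 1⟩]), (!![⟨2, 1⟩, ⟨1, 2⟩; ⟨0, 1⟩, ⟨2, 0⟩], !![⟨0, 1⟩, ⟨1, 1⟩; ⟨2, 0⟩, ⟨1, 1⟩]), (!![⟨0, 2⟩, ⟨0, 1⟩; ⟨2, 1⟩, ⟨0, 1⟩], !![⟨2, 1⟩, ⟨1, 2⟩; ⟨2, 0⟩, ⟨1, 2⟩]), (!![⟨2, 1⟩, ⟨0, 0⟩; ⟨1, 0⟩, ⟨0, 2⟩], !![⟨1, 1⟩, ⟨0, 0⟩; ⟨1, 2⟩, ⟨0, 1⟩]), (!![⟨1, 2⟩, ⟨2, 2⟩; ⟨0, 2⟩, ⟨1, 0⟩], !![⟨1, 1⟩, ⟨0, 2⟩; ⟨2, 1⟩, ⟨2, 0⟩]), (!![⟨0, 0⟩,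 ⟨0, 2⟩; ⟨2, 1⟩, ⟨0, 1⟩], !![⟨1, 1⟩, ⟨1, 1⟩; ⟨0, 1⟩, ⟨0, 0⟩]), (!![⟨1, 1⟩, ⟨2, 0⟩; ⟨1, 0⟩, ⟨0, 1⟩], !![⟨1, 0⟩, ⟨0, 2⟩; ⟨0, 1⟩, ⟨1, 2⟩])],
  ![(!![⟨2, 0⟩, ⟨1, 2⟩; ⟨0, 2⟩, ⟨0, 0⟩], !![⟨0, 0⟩, ⟨0, 1⟩; ⟨2, 2⟩, ⟨1, 2⟩]), (!![⟨0, 2⟩, ⟨0, 0⟩; ⟨1, 2⟩, ⟨2, 0⟩], !![⟨0, 1⟩, ⟨0, 0⟩; ⟨1, 1⟩, ⟨2, 0⟩]), (!![⟨1, 2⟩, ⟨1, 2⟩; ⟨1, 1⟩, ⟨1, 2⟩], !![⟨0, 2⟩, ⟨0, 1⟩; ⟨2, 0⟩, ⟨0, 2⟩]), (!![⟨1, 1⟩, ⟨0, 2⟩; ⟨1, 0⟩, ⟨0, 1⟩], !![⟨1, 1⟩, ⟨1, 1⟩; ⟨2, 1⟩, ⟨2, 0⟩]), (!![⟨2, 1⟩, ⟨0, 0⟩; ⟨2, 2⟩, ⟨0, 2⟩], !![⟨1, 1⟩, ⟨0, 0⟩; ⟨1, 0⟩, ⟨0, 1⟩]), (!![⟨2, 0⟩, ⟨0,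 1⟩; ⟨2, 2⟩, ⟨1, 1⟩], !![⟨1, 1⟩, ⟨0, 2⟩; ⟨1, 1⟩, ⟨2, 0⟩]), (!![⟨1, 2⟩, ⟨0, 0⟩; ⟨1, 1⟩, ⟨0, 2⟩], !![⟨2, 2⟩, ⟨0, 0⟩; ⟨1, 0⟩, ⟨0, 1⟩]), (!![⟨2, 0⟩, ⟨2, 2⟩; ⟨0, 0⟩, ⟨2, 0⟩], !![⟨2, 0⟩, ⟨1, 1⟩; ⟨0, 0⟩, ⟨2, 0⟩])],
  ![(!![⟨2, 1⟩, ⟨0, 1⟩; ⟨1, 0⟩, ⟨1, 1⟩], !![⟨0, 1⟩, ⟨2, 1⟩; ⟨1, 1⟩, ⟨2, 0⟩]), (!![⟨1, 2⟩, ⟨2, 2⟩; ⟨1, 1⟩, ⟨0, 1⟩], !![⟨0, 1⟩, ⟨1, 1⟩; ⟨2, 2⟩, ⟨1, 2⟩]), (!![⟨1, 1⟩, ⟨0, 2⟩; ⟨1, 0⟩, ⟨1, 2⟩], !![⟨2, 0⟩, ⟨2, 1⟩; ⟨2, 2⟩, ⟨0, 2⟩]), (!![⟨2, 0⟩, ⟨0, 0⟩; ⟨1, 1⟩, ⟨1, 2⟩], !![⟨2, 0⟩, ⟨0, 0⟩; ⟨0, 1⟩, ⟨2, 2⟩]), (!![⟨1, 2⟩, ⟨0, 0⟩;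 ⟨2, 2⟩, ⟨2, 0⟩], !![⟨2, 2⟩, ⟨0, 0⟩; ⟨0, 2⟩, ⟨2, 0⟩]), (!![⟨2, 0⟩, ⟨1, 2⟩; ⟨0, 0⟩, ⟨2, 0⟩], !![⟨2, 0⟩, ⟨2, 1⟩; ⟨0, 0⟩, ⟨2, 0⟩]), (!![⟨1, 2⟩, ⟨0, 0⟩; ⟨2, 2⟩, ⟨0, 2⟩], !![⟨2, 2⟩, ⟨0, 0⟩; ⟨2, 0⟩, ⟨0, 1⟩]), (!![⟨2, 0⟩, ⟨0, 0⟩; ⟨0, 2⟩, ⟨2, 1⟩], !![⟨2, 0⟩, ⟨0, 0⟩; ⟨1, 2⟩, ⟨1, 1⟩])],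
  ![(!![⟨1, 0⟩, ⟨1, 1⟩; ⟨2, 1⟩, ⟨1, 1⟩], !![⟨1, 2⟩, ⟨2, 1⟩; ⟨2, 2⟩, ⟨0, 2⟩]), (!![⟨2, 2⟩, ⟨1, 1⟩; ⟨2, 1⟩, ⟨1, 1⟩], !![⟨0, 2⟩, ⟨0, 1⟩; ⟨2, 0⟩, ⟨0, 1⟩]), (!![⟨2, 1⟩, ⟨0, 1⟩; ⟨2, 2⟩, ⟨1, 1⟩], !![⟨1, 2⟩, ⟨2, 0⟩; ⟨1, 2⟩, ⟨1, 1⟩]), (!![⟨0, 2⟩, ⟨2, 2⟩; ⟨1, 2⟩, ⟨2, 0⟩], !![⟨2, 2⟩, ⟨0, 2⟩; ⟨1, 0⟩, ⟨1, 2⟩]), (!![⟨2, 1⟩, ⟨0, 0⟩; ⟨0, 1⟩, ⟨2, 0⟩], !![⟨1, 1⟩, ⟨0, 0⟩; ⟨2, 1⟩, ⟨2, 0⟩]), (!![⟨2, 2⟩, ⟨2, 1⟩; ⟨1, 0⟩, ⟨0, 1⟩], !![⟨2, 1⟩, ⟨2, 0⟩; ⟨2, 2⟩, ⟨0, 1⟩]), (!![⟨1, 2⟩, ⟨2, 1⟩; ⟨1, 0⟩, ⟨1, 1⟩], !![⟨2, 1⟩, ⟨1, 1⟩; ⟨0, 2⟩, ⟨1, 1⟩]), (!![⟨2,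 0⟩, ⟨2, 2⟩; ⟨0, 2⟩, ⟨1, 0⟩], !![⟨0, 1⟩, ⟨2, 1⟩; ⟨2, 0⟩, ⟨0, 2⟩])],
  ![(!![⟨0, 1⟩, ⟨0, 2⟩; ⟨2, 0⟩, ⟨0, 2⟩], !![⟨2, 1⟩, ⟨1, 2⟩; ⟨2, 2⟩, ⟨1, 2⟩]), (!![⟨0, 2⟩, ⟨2, 2⟩; ⟨2, 2⟩, ⟨0, 1⟩], !![⟨2, 2⟩, ⟨1, 0⟩; ⟨1, 0⟩, ⟨1, 1⟩]), (!![⟨2, 1⟩, ⟨0, 0⟩; ⟨0, 2⟩, ⟨2, 1⟩], !![⟨1, 1⟩, ⟨0, 0⟩; ⟨1, 0⟩, ⟨1, 1⟩]), (!![⟨2, 0⟩, ⟨0, 0⟩; ⟨2, 1⟩, ⟨0, 2⟩], !![⟨2, 0⟩, ⟨0, 0⟩; ⟨2, 2⟩, ⟨0, 1⟩]), (!![⟨0, 2⟩, ⟨0, 0⟩; ⟨2, 1⟩, ⟨1, 2⟩], !![⟨0, 1⟩, ⟨0, 0⟩; ⟨0, 1⟩, ⟨2, 2⟩]), (!![⟨0, 1⟩, ⟨0, 2⟩; ⟨2, 0⟩, ⟨0, 1⟩], !![⟨1, 1⟩, ⟨1, 1⟩; ⟨1, 2⟩, ⟨1, 1⟩]), (!![⟨1, 2⟩,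 ⟨1, 2⟩; ⟨0, 2⟩, ⟨0, 0⟩], !![⟨0, 0⟩, ⟨0, 1⟩; ⟨2, 2⟩, ⟨0, 2⟩]), (!![⟨2, 0⟩, ⟨1, 2⟩; ⟨1, 1⟩, ⟨1, 1⟩], !![⟨2, 1⟩, ⟨2, 2⟩; ⟨1, 2⟩, ⟨0, 2⟩])],
  ![(!![⟨0, 2⟩, ⟨1, 2⟩; ⟨0, 2⟩, ⟨0, 0⟩], !![⟨0, 0⟩, ⟨0, 1⟩; ⟨2, 2⟩, ⟨1, 1⟩]), (!![⟨2, 2⟩, ⟨2, 0⟩; ⟨2, 1⟩, ⟨0, 2⟩], !![⟨2, 1⟩, ⟨2, 2⟩; ⟨1, 0⟩, ⟨0, 2⟩]), (!![⟨1, 2⟩, ⟨1, 2⟩; ⟨2, 2⟩, ⟨2, 0⟩], !![⟨1, 2⟩, ⟨0, 1⟩; ⟨1, 0⟩, ⟨0, 2⟩]), (!![⟨0, 2⟩, ⟨0, 1⟩; ⟨1, 2⟩, ⟨2, 0⟩], !![⟨1, 0⟩, ⟨0, 1⟩; ⟨1, 2⟩, ⟨0, 1⟩]), (!![⟨1, 0⟩, ⟨0, 2⟩; ⟨1, 1⟩, ⟨0, 2⟩], !![⟨0, 1⟩, ⟨0, 2⟩; ⟨1, 1⟩, ⟨2, 0⟩]), (!![⟨2, 0⟩, ⟨2,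 2⟩; ⟨2, 1⟩, ⟨0, 1⟩], !![⟨1, 2⟩, ⟨0, 1⟩; ⟨1, 0⟩, ⟨1, 1⟩]), (!![⟨2, 2⟩, ⟨2, 0⟩; ⟨1, 1⟩, ⟨0, 2⟩], !![⟨1, 0⟩, ⟨0, 1⟩; ⟨1, 2⟩, ⟨1, 2⟩]), (!![⟨2, 2⟩, ⟨1, 0⟩; ⟨2, 0⟩, ⟨1, 2⟩], !![⟨2, 1⟩, ⟨1, 0⟩; ⟨2, 0⟩, ⟨1, 1⟩])],
  ![(!![⟨2, 0⟩, ⟨0, 1⟩; ⟨1, 1⟩, ⟨0, 1⟩], !![⟨2, 2⟩, ⟨1, 1⟩; ⟨2, 0⟩, ⟨1, 2⟩]), (!![⟨1, 2⟩, ⟨0, 1⟩; ⟨2, 2⟩, ⟨1, 1⟩], !![⟨1, 0⟩, ⟨1, 1⟩; ⟨1, 0⟩, ⟨0, 2⟩]), (!![⟨2, 2⟩, ⟨0, 0⟩; ⟨1, 0⟩, ⟨0, 2⟩], !![⟨1, 2⟩, ⟨0, 0⟩; ⟨2, 2⟩, ⟨0, 1⟩]), (!![⟨2, 0⟩, ⟨0, 1⟩; ⟨0, 0⟩, ⟨2, 0⟩], !![⟨2, 0⟩, ⟨0, 2⟩; ⟨0, 0⟩, ⟨2, 0⟩]), (!![⟨1, 0⟩, ⟨2, 0⟩;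 ⟨0, 2⟩, ⟨2, 2⟩], !![⟨0, 1⟩, ⟨1, 1⟩; ⟨2, 1⟩, ⟨1, 1⟩]), (!![⟨2, 2⟩, ⟨1, 0⟩; ⟨2, 1⟩, ⟨1, 2⟩], !![⟨0, 1⟩, ⟨2, 1⟩; ⟨0, 1⟩, ⟨1, 0⟩]), (!![⟨2, 1⟩, ⟨1, 2⟩; ⟨1, 0⟩, ⟨1, 2⟩], !![⟨2, 1⟩, ⟨1, 2⟩; ⟨1, 0⟩, ⟨1, 2⟩]), (!![⟨2, 0⟩, ⟨0, 0⟩; ⟨2, 2⟩, ⟨0, 2⟩], !![⟨2, 0⟩, ⟨0, 0⟩; ⟨1, 2⟩, ⟨0, 1⟩])],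
  ![(!![⟨1, 0⟩, ⟨1, 2⟩; ⟨1, 2⟩, ⟨2, 0⟩], !![⟨2, 1⟩, ⟨0, 2⟩; ⟨0, 2⟩, ⟨1, 2⟩]), (!![⟨0, 2⟩, ⟨0, 0⟩; ⟨0, 2⟩, ⟨2, 1⟩], !![⟨0, 1⟩, ⟨0, 0⟩; ⟨2, 2⟩, ⟨1, 1⟩]), (!![⟨1, 2⟩, ⟨0, 1⟩; ⟨1, 1⟩, ⟨1, 1⟩], !![⟨2, 1⟩, ⟨1, 0⟩; ⟨1, 2⟩, ⟨1, 1⟩]), (!![⟨1, 2⟩, ⟨1, 2⟩; ⟨1, 0⟩, ⟨1, 1⟩], !![⟨1, 0⟩, ⟨0, 1⟩; ⟨1, 2⟩, ⟨0, 2⟩]), (!![⟨0, 2⟩, ⟨1, 2⟩; ⟨2, 1⟩, ⟨1, 1⟩], !![⟨1, 1⟩, ⟨2, 1⟩; ⟨1, 2⟩, ⟨0, 2⟩]), (!![⟨2, 1⟩, ⟨0, 0⟩; ⟨2, 0⟩, ⟨1, 2⟩], !![⟨1, 1⟩, ⟨0, 0⟩; ⟨0, 1⟩, ⟨2, 2⟩]), (!![⟨0, 2⟩, ⟨0, 0⟩; ⟨2, 1⟩, ⟨0, 2⟩], !![⟨0, 1⟩, ⟨0, 0⟩; ⟨2, 1⟩, ⟨0, 1⟩]), (!![⟨2,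 1⟩, ⟨0, 1⟩; ⟨2, 0⟩, ⟨0, 1⟩], !![⟨0, 2⟩, ⟨0, 1⟩; ⟨2, 0⟩, ⟨1, 2⟩])],
  ![(!![⟨2, 2⟩, ⟨2, 1⟩; ⟨1, 1⟩, ⟨0, 1⟩], !![⟨2, 0⟩, ⟨1, 1⟩; ⟨1, 2⟩, ⟨1, 2⟩]), (!![⟨1, 1⟩, ⟨0, 0⟩; ⟨1, 1⟩, ⟨0, 2⟩], !![⟨2, 1⟩, ⟨0, 0⟩; ⟨0, 2⟩, ⟨0, 1⟩]), (!![⟨1, 2⟩, ⟨1, 2⟩; ⟨2, 2⟩, ⟨1, 2⟩], !![⟨2, 0⟩, ⟨1, 0⟩; ⟨0, 2⟩, ⟨2, 0⟩]), (!![⟨2, 0⟩, ⟨1, 2⟩; ⟨2, 2⟩, ⟨1, 2⟩], !![⟨0, 2⟩, ⟨0, 1⟩; ⟨1, 0⟩, ⟨1, 2⟩]), (!![⟨2, 1⟩, ⟨1, 2⟩; ⟨0, 2⟩, ⟨0, 0⟩], !![⟨0, 0⟩, ⟨0, 1⟩; ⟨2, 2⟩, ⟨0, 1⟩]), (!![⟨0, 2⟩, ⟨0, 1⟩; ⟨2, 0⟩, ⟨1, 1⟩], !![⟨1, 1⟩, ⟨0, 2⟩; ⟨1, 0⟩, ⟨0, 2⟩]), (!![⟨2, 1⟩,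 ⟨1, 2⟩; ⟨2, 2⟩, ⟨1, 2⟩], !![⟨0, 1⟩, ⟨0, 2⟩; ⟨2, 0⟩, ⟨0, 2⟩]), (!![⟨2, 1⟩, ⟨1, 2⟩; ⟨2, 0⟩, ⟨1, 1⟩], !![⟨2, 0⟩, ⟨0, 2⟩; ⟨1, 2⟩, ⟨0, 2⟩])]]

/-- Base changes. -/
def certR (i : Fin 112) : C9 × C9 := certRChunk ⟨i.1 / 8, by omega⟩ ⟨i.1 % 8, by omega⟩

def certHChunk : Fin 14 → Fin 8 → C9 × C9 := ![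
  ![(!![⟨1, 1⟩, ⟨1, 2⟩; ⟨2, 2⟩, ⟨1, 0⟩], !![⟨0, 2⟩, ⟨1, 1⟩; ⟨1, 2⟩, ⟨1, 2⟩]), (!![⟨1, 1⟩, ⟨2, 2⟩; ⟨2, 1⟩, ⟨2, 0⟩], !![⟨0, 2⟩, ⟨2, 1⟩; ⟨1, 1⟩, ⟨2, 1⟩]), (!![⟨2, 2⟩, ⟨2, 2⟩; ⟨0, 2⟩, ⟨2, 1⟩], !![⟨2, 2⟩, ⟨2, 1⟩; ⟨2, 0⟩, ⟨1, 2⟩]), (!![⟨1, 2⟩, ⟨0, 1⟩; ⟨0, 0⟩, ⟨2, 1⟩], !![⟨2, 2⟩, ⟨1, 0⟩; ⟨0, 0⟩, ⟨1, 1⟩]), (!![⟨1, 1⟩, ⟨1, 1⟩; ⟨1, 0⟩, ⟨0, 0⟩], !![⟨0, 0⟩, ⟨1, 0⟩; ⟨2, 1⟩, ⟨2, 0⟩]), (!![⟨0, 0⟩, ⟨2, 2⟩; ⟨2, 0⟩, ⟨2, 1⟩], !![⟨0, 2⟩, ⟨2, 0⟩; ⟨1, 2⟩, ⟨0, 0⟩]), (!![⟨2, 0⟩, ⟨2, 0⟩; ⟨2, 1⟩, ⟨2, 0⟩], !![⟨0, 1⟩, ⟨0, 2⟩; ⟨2, 2⟩, ⟨0, 1⟩]), (!![⟨0,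 0⟩, ⟨1, 1⟩; ⟨2, 2⟩, ⟨0, 1⟩], !![⟨2, 0⟩, ⟨1, 2⟩; ⟨2, 1⟩, ⟨0, 0⟩])],
  ![(!![⟨2, 1⟩, ⟨1, 2⟩; ⟨2, 0⟩, ⟨1, 2⟩], !![⟨0, 2⟩, ⟨0, 1⟩; ⟨2, 1⟩, ⟨0, 1⟩]), (!![⟨1, 1⟩, ⟨2, 1⟩; ⟨2, 1⟩, ⟨0, 0⟩], !![⟨0, 0⟩, ⟨1, 1⟩; ⟨1, 1⟩, ⟨2, 1⟩]), (!![⟨0, 0⟩, ⟨1, 1⟩; ⟨1, 0⟩, ⟨0, 2⟩], !![⟨2, 2⟩, ⟨1, 0⟩; ⟨2, 1⟩, ⟨0, 0⟩]), (!![⟨2, 0⟩, ⟨1, 2⟩; ⟨2, 2⟩, ⟨1, 2⟩], !![⟨0, 2⟩, ⟨0, 1⟩; ⟨1, 0⟩, ⟨1, 2⟩]), (!![⟨0, 0⟩, ⟨2, 2⟩; ⟨0, 1⟩, ⟨2, 2⟩], !![⟨0, 1⟩, ⟨0, 2⟩; ⟨1, 2⟩, ⟨0, 0⟩]), (!![⟨2, 2⟩, ⟨0, 1⟩; ⟨2, 0⟩, ⟨2, 1⟩], !![⟨1, 0⟩, ⟨1, 2⟩; ⟨1, 1⟩, ⟨0, 1⟩]), (!![⟨2, 0⟩,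 ⟨1, 0⟩; ⟨2, 0⟩, ⟨2, 1⟩], !![⟨0, 2⟩, ⟨2, 1⟩; ⟨1, 2⟩, ⟨2, 1⟩]), (!![⟨2, 0⟩, ⟨1, 1⟩; ⟨2, 2⟩, ⟨0, 1⟩], !![⟨1, 0⟩, ⟨2, 1⟩; ⟨1, 2⟩, ⟨0, 1⟩])],
  ![(!![⟨2, 1⟩, ⟨2, 0⟩; ⟨2, 2⟩, ⟨2, 1⟩], !![⟨1, 2⟩, ⟨2, 0⟩; ⟨2, 2⟩, ⟨1, 2⟩]), (!![⟨1, 0⟩, ⟨2, 0⟩; ⟨0, 2⟩, ⟨1, 2⟩], !![⟨0, 2⟩, ⟨2, 1⟩; ⟨2, 2⟩, ⟨2, 1⟩]), (!![⟨0, 2⟩, ⟨1, 2⟩; ⟨2, 1⟩, ⟨0, 2⟩], !![⟨1, 2⟩, ⟨1, 0⟩; ⟨2, 0⟩, ⟨1, 2⟩]), (!![⟨2, 0⟩, ⟨1, 0⟩; ⟨2, 1⟩, ⟨0, 2⟩], !![⟨0, 2⟩, ⟨2, 0⟩; ⟨1, 2⟩, ⟨2, 0⟩]), (!![⟨1, 2⟩, ⟨0, 1⟩; ⟨0, 2⟩, ⟨1, 2⟩], !![⟨2, 0⟩, ⟨1, 2⟩; ⟨2, 1⟩, ⟨2, 0⟩]), (!![⟨2, 1⟩, ⟨2,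 1⟩; ⟨1, 2⟩, ⟨2, 0⟩], !![⟨2, 0⟩, ⟨1, 2⟩; ⟨2, 1⟩, ⟨2, 1⟩]), (!![⟨2, 2⟩, ⟨0, 2⟩; ⟨0, 0⟩, ⟨1, 0⟩], !![⟨1, 2⟩, ⟨1, 1⟩; ⟨0, 0⟩, ⟨1, 0⟩]), (!![⟨1, 0⟩, ⟨1, 0⟩; ⟨2, 2⟩, ⟨2, 1⟩], !![⟨2, 2⟩, ⟨0, 2⟩; ⟨2, 1⟩, ⟨0, 1⟩])],
  ![(!![⟨2, 2⟩, ⟨1, 0⟩; ⟨2, 0⟩, ⟨1, 0⟩], !![⟨0, 1⟩, ⟨0, 2⟩; ⟨0, 1⟩, ⟨1, 2⟩]), (!![⟨0, 2⟩, ⟨2, 1⟩; ⟨1, 2⟩, ⟨0, 0⟩], !![⟨0, 0⟩, ⟨2, 2⟩; ⟨1, 1⟩, ⟨2, 0⟩]), (!![⟨2, 0⟩, ⟨0, 2⟩; ⟨2, 2⟩, ⟨0, 1⟩], !![⟨2, 2⟩, ⟨2, 2⟩; ⟨1, 0⟩, ⟨1, 2⟩]), (!![⟨2, 1⟩, ⟨2, 1⟩; ⟨2, 0⟩, ⟨1, 2⟩], !![⟨2, 1⟩, ⟨2, 1⟩; ⟨2, 0⟩, ⟨1, 2⟩]), (!![⟨2, 0⟩, ⟨1, 2⟩;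 ⟨2, 2⟩, ⟨1, 2⟩], !![⟨0, 2⟩, ⟨0, 1⟩; ⟨1, 0⟩, ⟨1, 2⟩]), (!![⟨0, 0⟩, ⟨1, 1⟩; ⟨0, 1⟩, ⟨0, 0⟩], !![⟨0, 0⟩, ⟨0, 2⟩; ⟨2, 1⟩, ⟨0, 0⟩]), (!![⟨1, 2⟩, ⟨1, 0⟩; ⟨0, 0⟩, ⟨1, 0⟩], !![⟨2, 2⟩, ⟨1, 1⟩; ⟨0, 0⟩, ⟨1, 0⟩]), (!![⟨0, 2⟩, ⟨2, 2⟩; ⟨1, 2⟩, ⟨2, 0⟩], !![⟨2, 2⟩, ⟨0, 2⟩; ⟨1, 0⟩, ⟨1, 2⟩])],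
  ![(!![⟨0, 2⟩, ⟨2, 2⟩; ⟨0, 0⟩, ⟨2, 1⟩], !![⟨0, 1⟩, ⟨1, 0⟩; ⟨0, 0⟩, ⟨1, 1⟩]), (!![⟨2, 1⟩, ⟨2, 1⟩; ⟨2, 0⟩, ⟨1, 0⟩], !![⟨2, 2⟩, ⟨1, 0⟩; ⟨2, 2⟩, ⟨2, 0⟩]), (!![⟨2, 1⟩, ⟨1, 1⟩; ⟨1, 2⟩, ⟨0, 0⟩], !![⟨0, 0⟩, ⟨2, 2⟩; ⟨2, 1⟩, ⟨2, 1⟩]), (!![⟨0, 2⟩, ⟨0, 2⟩; ⟨1, 0⟩, ⟨0, 2⟩], !![⟨1, 2⟩, ⟨2, 1⟩; ⟨2, 2⟩, ⟨1, 2⟩]), (!![⟨2, 0⟩, ⟨0, 1⟩; ⟨2, 1⟩, ⟨0, 0⟩], !![⟨0, 0⟩, ⟨1, 1⟩; ⟨0, 2⟩, ⟨1, 2⟩]), (!![⟨1, 1⟩, ⟨2, 2⟩; ⟨1, 0⟩, ⟨2, 2⟩], !![⟨0, 2⟩, ⟨0, 1⟩; ⟨1, 1⟩, ⟨0, 1⟩]), (!![⟨0, 0⟩, ⟨2, 1⟩; ⟨0, 1⟩, ⟨2, 0⟩], !![⟨1, 2⟩, ⟨0, 2⟩; ⟨1, 1⟩, ⟨0, 0⟩]), (!![⟨1,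 0⟩, ⟨1, 0⟩; ⟨1, 2⟩, ⟨0, 2⟩], !![⟨0, 1⟩, ⟨1, 0⟩; ⟨1, 2⟩, ⟨2, 0⟩])],
  ![(!![⟨2, 0⟩, ⟨1, 0⟩; ⟨2, 2⟩, ⟨1, 0⟩], !![⟨0, 2⟩, ⟨0, 1⟩; ⟨1, 2⟩, ⟨0, 1⟩]), (!![⟨2, 0⟩, ⟨0, 1⟩; ⟨2, 0⟩, ⟨1, 2⟩], !![⟨0, 1⟩, ⟨2, 2⟩; ⟨1, 2⟩, ⟨2, 1⟩]), (!![⟨0, 2⟩, ⟨1, 2⟩; ⟨1, 2⟩, ⟨2, 2⟩], !![⟨1, 1⟩, ⟨1, 2⟩; ⟨1, 2⟩, ⟨0, 1⟩]), (!![⟨1, 1⟩, ⟨0, 1⟩; ⟨0, 2⟩, ⟨1, 0⟩], !![⟨0, 2⟩, ⟨2, 0⟩; ⟨1, 0⟩, ⟨1, 2⟩]), (!![⟨2, 2⟩, ⟨0, 1⟩; ⟨1, 0⟩, ⟨0, 0⟩], !![⟨0, 0⟩, ⟨1, 0⟩; ⟨0, 2⟩, ⟨1, 2⟩]), (!![⟨2, 2⟩, ⟨1, 0⟩; ⟨0, 0⟩, ⟨2, 1⟩], !![⟨1, 2⟩, ⟨1, 0⟩; ⟨0, 0⟩, ⟨1, 1⟩]), (!![⟨2, 2⟩,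 ⟨0, 2⟩; ⟨2, 0⟩, ⟨0, 1⟩], !![⟨2, 2⟩, ⟨2, 2⟩; ⟨2, 1⟩, ⟨2, 0⟩]), (!![⟨2, 2⟩, ⟨2, 0⟩; ⟨1, 0⟩, ⟨2, 0⟩], !![⟨2, 2⟩, ⟨1, 1⟩; ⟨2, 2⟩, ⟨0, 1⟩])],
  ![(!![⟨1, 2⟩, ⟨2, 0⟩; ⟨0, 2⟩, ⟨0, 1⟩], !![⟨0, 1⟩, ⟨1, 0⟩; ⟨0, 1⟩, ⟨1, 2⟩]), (!![⟨2, 1⟩, ⟨1, 1⟩; ⟨0, 1⟩, ⟨0, 2⟩], !![⟨0, 1⟩, ⟨1, 1⟩; ⟨0, 1⟩, ⟨1, 2⟩]), (!![⟨1, 2⟩, ⟨1, 0⟩; ⟨0, 1⟩, ⟨0, 2⟩], !![⟨1, 2⟩, ⟨2, 2⟩; ⟨1, 2⟩, ⟨2, 0⟩]), (!![⟨1, 0⟩, ⟨0, 2⟩; ⟨0, 2⟩, ⟨0, 1⟩], !![⟨2, 2⟩, ⟨2, 2⟩; ⟨2, 2⟩, ⟨2, 1⟩]), (!![⟨0, 0⟩, ⟨2, 1⟩; ⟨2, 0⟩, ⟨1, 0⟩], !![⟨1, 1⟩, ⟨2, 0⟩; ⟨1, 1⟩, ⟨0, 0⟩]), (!![⟨2, 2⟩, ⟨1,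 2⟩; ⟨0, 2⟩, ⟨1, 2⟩], !![⟨2, 0⟩, ⟨1, 0⟩; ⟨2, 1⟩, ⟨0, 1⟩]), (!![⟨1, 2⟩, ⟨0, 1⟩; ⟨0, 1⟩, ⟨0, 0⟩], !![⟨0, 0⟩, ⟨0, 2⟩; ⟨0, 2⟩, ⟨1, 2⟩]), (!![⟨0, 0⟩, ⟨2, 1⟩; ⟨1, 0⟩, ⟨0, 0⟩], !![⟨0, 0⟩, ⟨1, 0⟩; ⟨1, 1⟩, ⟨0, 0⟩])],
  ![(!![⟨2, 0⟩, ⟨0, 0⟩; ⟨1, 0⟩, ⟨2, 2⟩], !![⟨2, 0⟩, ⟨0, 0⟩; ⟨1, 2⟩, ⟨1, 2⟩]), (!![⟨1, 2⟩, ⟨2, 0⟩; ⟨0, 1⟩, ⟨2, 0⟩], !![⟨2, 1⟩, ⟨1, 2⟩; ⟨2, 2⟩, ⟨0, 1⟩]), (!![⟨1, 0⟩, ⟨0, 1⟩; ⟨0, 2⟩, ⟨2, 1⟩], !![⟨0, 1⟩, ⟨1, 1⟩; ⟨2, 2⟩, ⟨2, 1⟩]), (!![⟨0, 2⟩, ⟨1, 2⟩; ⟨0, 0⟩, ⟨1, 2⟩], !![⟨0, 1⟩, ⟨0, 2⟩; ⟨0, 0⟩, ⟨2, 2⟩]), (!![⟨1, 1⟩, ⟨1, 1⟩;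 ⟨2, 1⟩, ⟨0, 2⟩], !![⟨1, 0⟩, ⟨1, 2⟩; ⟨1, 1⟩, ⟨2, 1⟩]), (!![⟨0, 0⟩, ⟨1, 2⟩; ⟨1, 0⟩, ⟨2, 2⟩], !![⟨0, 1⟩, ⟨1, 0⟩; ⟨2, 2⟩, ⟨0, 0⟩]), (!![⟨0, 2⟩, ⟨2, 1⟩; ⟨0, 0⟩, ⟨1, 0⟩], !![⟨0, 1⟩, ⟨1, 1⟩; ⟨0, 0⟩, ⟨1, 0⟩]), (!![⟨1, 2⟩, ⟨0, 2⟩; ⟨0, 2⟩, ⟨1, 0⟩], !![⟨1, 2⟩, ⟨1, 1⟩; ⟨1, 1⟩, ⟨0, 1⟩])],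
  ![(!![⟨2, 2⟩, ⟨0, 0⟩; ⟨1, 2⟩, ⟨2, 2⟩], !![⟨1, 2⟩, ⟨0, 0⟩; ⟨2, 2⟩, ⟨1, 2⟩]), (!![⟨0, 2⟩, ⟨1, 1⟩; ⟨2, 1⟩, ⟨0, 0⟩], !![⟨0, 0⟩, ⟨1, 1⟩; ⟨2, 1⟩, ⟨0, 1⟩]), (!![⟨0, 0⟩, ⟨1, 2⟩; ⟨2, 0⟩, ⟨1, 2⟩], !![⟨1, 0⟩, ⟨2, 0⟩; ⟨2, 2⟩, ⟨0, 0⟩]), (!![⟨2, 1⟩, ⟨2, 1⟩; ⟨0, 1⟩, ⟨0, 0⟩], !![⟨0, 0⟩, ⟨0, 2⟩; ⟨1, 1⟩, ⟨0, 1⟩]), (!![⟨0, 1⟩, ⟨1, 2⟩; ⟨1, 2⟩, ⟨0, 2⟩], !![⟨2, 1⟩, ⟨2, 0⟩; ⟨2, 0⟩, ⟨1, 2⟩]), (!![⟨0, 0⟩, ⟨1, 2⟩; ⟨0, 1⟩, ⟨0, 2⟩], !![⟨2, 2⟩, ⟨0, 2⟩; ⟨2, 2⟩, ⟨0, 0⟩]), (!![⟨1, 0⟩, ⟨1, 0⟩; ⟨0, 2⟩, ⟨1, 0⟩], !![⟨2, 1⟩, ⟨1, 2⟩; ⟨2, 2⟩, ⟨2, 1⟩]), (!![⟨0,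 1⟩, ⟨0, 1⟩; ⟨0, 2⟩, ⟨2, 1⟩], !![⟨2, 0⟩, ⟨2, 1⟩; ⟨1, 2⟩, ⟨1, 2⟩])],
  ![(!![⟨1, 2⟩, ⟨2, 0⟩; ⟨0, 0⟩, ⟨1, 2⟩], !![⟨2, 2⟩, ⟨0, 2⟩; ⟨0, 0⟩, ⟨2, 2⟩]), (!![⟨2, 0⟩, ⟨2, 2⟩; ⟨2, 2⟩, ⟨2, 1⟩], !![⟨2, 1⟩, ⟨1, 1⟩; ⟨1, 1⟩, ⟨2, 0⟩]), (!![⟨2, 0⟩, ⟨0, 2⟩; ⟨2, 0⟩, ⟨1, 0⟩], !![⟨1, 2⟩, ⟨1, 1⟩; ⟨1, 2⟩, ⟨2, 1⟩]), (!![⟨1, 0⟩, ⟨0, 1⟩; ⟨1, 2⟩, ⟨0, 0⟩], !![⟨0, 0⟩, ⟨2, 2⟩; ⟨0, 2⟩, ⟨1, 2⟩]), (!![⟨1, 1⟩, ⟨1, 2⟩; ⟨0, 2⟩, ⟨1, 2⟩], !![⟨2, 2⟩, ⟨1, 1⟩; ⟨1, 0⟩, ⟨1, 2⟩]), (!![⟨1, 2⟩, ⟨0, 2⟩; ⟨0, 0⟩, ⟨0, 1⟩], !![⟨2, 2⟩, ⟨2, 2⟩; ⟨0, 0⟩, ⟨0, 2⟩]), (!![⟨2, 2⟩,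 ⟨2, 0⟩; ⟨0, 0⟩, ⟨0, 1⟩], !![⟨1, 2⟩, ⟨2, 2⟩; ⟨0, 0⟩, ⟨0, 2⟩]), (!![⟨0, 2⟩, ⟨2, 2⟩; ⟨0, 0⟩, ⟨2, 1⟩], !![⟨0, 1⟩, ⟨1, 0⟩; ⟨0, 0⟩, ⟨1, 1⟩])],
  ![(!![⟨1, 0⟩, ⟨2, 0⟩; ⟨2, 2⟩, ⟨0, 1⟩], !![⟨0, 2⟩, ⟨2, 0⟩; ⟨2, 2⟩, ⟨2, 0⟩]), (!![⟨0, 2⟩, ⟨2, 2⟩; ⟨2, 1⟩, ⟨2, 2⟩], !![⟨2, 1⟩, ⟨1, 2⟩; ⟨2, 2⟩, ⟨2, 0⟩]), (!![⟨1, 1⟩, ⟨1, 2⟩; ⟨2, 1⟩, ⟨2, 2⟩], !![⟨1, 2⟩, ⟨2, 2⟩; ⟨1, 1⟩, ⟨2, 1⟩]), (!![⟨2, 2⟩, ⟨2, 2⟩; ⟨0, 1⟩, ⟨2, 0⟩], !![⟨0, 2⟩, ⟨2, 1⟩; ⟨1, 0⟩, ⟨1, 2⟩]), (!![⟨2, 0⟩, ⟨2, 0⟩; ⟨2, 2⟩, ⟨1, 2⟩], !![⟨1, 2⟩, ⟨1, 0⟩; ⟨1, 1⟩, ⟨2, 0⟩]), (!![⟨1, 0⟩, ⟨2,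 0⟩; ⟨1, 2⟩, ⟨2, 0⟩], !![⟨0, 2⟩, ⟨0, 1⟩; ⟨2, 2⟩, ⟨0, 1⟩]), (!![⟨2, 1⟩, ⟨2, 2⟩; ⟨1, 2⟩, ⟨2, 2⟩], !![⟨2, 2⟩, ⟨1, 1⟩; ⟨2, 1⟩, ⟨2, 1⟩]), (!![⟨1, 1⟩, ⟨2, 1⟩; ⟨1, 0⟩, ⟨2, 0⟩], !![⟨0, 1⟩, ⟨2, 2⟩; ⟨0, 1⟩, ⟨1, 2⟩])],
  ![(!![⟨0, 2⟩, ⟨2, 1⟩; ⟨0, 0⟩, ⟨1, 0⟩], !![⟨0, 1⟩, ⟨1, 1⟩; ⟨0, 0⟩, ⟨1, 0⟩]), (!![⟨0, 2⟩, ⟨1, 2⟩; ⟨0, 0⟩, ⟨1, 2⟩], !![⟨0, 1⟩, ⟨0, 2⟩; ⟨0, 0⟩, ⟨2, 2⟩]), (!![⟨0, 1⟩, ⟨2, 2⟩; ⟨2, 0⟩, ⟨0, 1⟩], !![⟨1, 2⟩, ⟨0, 1⟩; ⟨2, 2⟩, ⟨1, 2⟩]), (!![⟨0, 0⟩, ⟨2, 2⟩; ⟨1, 0⟩, ⟨2, 0⟩], !![⟨1, 2⟩, ⟨1, 0⟩; ⟨1, 2⟩, ⟨0, 0⟩]), (!![⟨2, 2⟩, ⟨0, 1⟩;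 ⟨0, 0⟩, ⟨1, 2⟩], !![⟨1, 2⟩, ⟨0, 2⟩; ⟨0, 0⟩, ⟨2, 2⟩]), (!![⟨1, 2⟩, ⟨0, 2⟩; ⟨2, 1⟩, ⟨2, 0⟩], !![⟨2, 0⟩, ⟨0, 1⟩; ⟨1, 2⟩, ⟨1, 2⟩]), (!![⟨2, 2⟩, ⟨1, 0⟩; ⟨1, 0⟩, ⟨0, 2⟩], !![⟨1, 1⟩, ⟨1, 2⟩; ⟨1, 2⟩, ⟨2, 0⟩]), (!![⟨2, 2⟩, ⟨2, 1⟩; ⟨0, 2⟩, ⟨1, 0⟩], !![⟨2, 1⟩, ⟨0, 2⟩; ⟨2, 2⟩, ⟨2, 0⟩])],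
  ![(!![⟨2, 1⟩, ⟨1, 2⟩; ⟨0, 1⟩, ⟨2, 2⟩], !![⟨0, 2⟩, ⟨2, 0⟩; ⟨2, 1⟩, ⟨2, 0⟩]), (!![⟨1, 0⟩, ⟨0, 2⟩; ⟨2, 2⟩, ⟨1, 0⟩], !![⟨1, 2⟩, ⟨1, 1⟩; ⟨2, 0⟩, ⟨1, 2⟩]), (!![⟨1, 1⟩, ⟨0, 0⟩; ⟨0, 1⟩, ⟨2, 2⟩], !![⟨2, 1⟩, ⟨0, 0⟩; ⟨2, 0⟩, ⟨1, 2⟩]), (!![⟨2, 1⟩, ⟨2, 2⟩; ⟨2, 0⟩, ⟨2, 1⟩], !![⟨1, 2⟩, ⟨2, 2⟩; ⟨2, 0⟩, ⟨1, 2⟩]), (!![⟨1, 1⟩, ⟨2, 2⟩; ⟨0, 2⟩, ⟨2, 1⟩], !![⟨0, 2⟩, ⟨2, 0⟩; ⟨1, 1⟩, ⟨2, 0⟩]), (!![⟨0, 0⟩, ⟨1, 2⟩; ⟨2, 2⟩, ⟨1, 2⟩], !![⟨2, 1⟩, ⟨1, 2⟩; ⟨2, 2⟩, ⟨0, 0⟩]), (!![⟨1, 1⟩, ⟨1, 1⟩; ⟨0, 2⟩, ⟨0, 1⟩], !![⟨1, 2⟩, ⟨0, 2⟩; ⟨1, 2⟩, ⟨0, 1⟩]), (!![⟨0,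 0⟩, ⟨2, 1⟩; ⟨2, 2⟩, ⟨1, 0⟩], !![⟨1, 0⟩, ⟨1, 2⟩; ⟨1, 1⟩, ⟨0, 0⟩])],
  ![(!![⟨2, 1⟩, ⟨1, 2⟩; ⟨1, 2⟩, ⟨0, 2⟩], !![⟨0, 2⟩, ⟨2, 1⟩; ⟨2, 1⟩, ⟨2, 1⟩]), (!![⟨0, 2⟩, ⟨1, 1⟩; ⟨0, 0⟩, ⟨0, 1⟩], !![⟨0, 1⟩, ⟨2, 2⟩; ⟨0, 0⟩, ⟨0, 2⟩]), (!![⟨0, 2⟩, ⟨1, 1⟩; ⟨0, 0⟩, ⟨0, 1⟩], !![⟨0, 1⟩, ⟨2, 2⟩; ⟨0, 0⟩, ⟨0, 2⟩]), (!![⟨2, 2⟩, ⟨0, 1⟩; ⟨0, 2⟩, ⟨0, 1⟩], !![⟨2, 0⟩, ⟨1, 0⟩; ⟨2, 0⟩, ⟨1, 2⟩]), (!![⟨2, 0⟩, ⟨2, 0⟩; ⟨2, 0⟩, ⟨0, 1⟩], !![⟨1, 1⟩, ⟨1, 2⟩; ⟨1, 2⟩, ⟨2, 1⟩]), (!![⟨0, 1⟩, ⟨0, 0⟩; ⟨2, 1⟩, ⟨2, 2⟩], !![⟨0, 2⟩, ⟨0, 0⟩; ⟨1, 0⟩, ⟨1, 2⟩]), (!![⟨0, 0⟩,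 ⟨1, 1⟩; ⟨2, 0⟩, ⟨0, 1⟩], !![⟨2, 2⟩, ⟨2, 0⟩; ⟨2, 1⟩, ⟨0, 0⟩]), (!![⟨0, 0⟩, ⟨2, 2⟩; ⟨2, 2⟩, ⟨2, 1⟩], !![⟨1, 1⟩, ⟨1, 2⟩; ⟨1, 2⟩, ⟨0, 0⟩])]]

/-- Base changes. -/
def certH (i : Fin 112) : C9 × C9 := certHChunk ⟨i.1 / 8, by omega⟩ ⟨i.1 % 8, by omega⟩

def sepVecChunk : Fin 14 → Fin 8 → Fin 4 → R9 := ![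
  ![![⟨0, 0⟩, ⟨0, 0⟩, ⟨0, 0⟩, ⟨0, 0⟩], ![⟨0, 0⟩, ⟨0, 0⟩, ⟨0, 1⟩, ⟨1, 1⟩], ![⟨0, 0⟩, ⟨0, 0⟩, ⟨0, 1⟩, ⟨1, 1⟩], ![⟨0, 0⟩, ⟨0, 0⟩, ⟨0, 1⟩, ⟨1, 1⟩], ![⟨0, 0⟩, ⟨0, 0⟩, ⟨0, 1⟩, ⟨1, 1⟩], ![⟨0, 0⟩, ⟨0, 0⟩, ⟨0, 1⟩, ⟨1, 1⟩], ![⟨0, 0⟩, ⟨0, 0⟩, ⟨0, 1⟩, ⟨1, 1⟩], ![⟨0, 0⟩, ⟨0, 0⟩, ⟨0, 1⟩, ⟨1, 1⟩]],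
  ![![⟨0, 0⟩, ⟨0, 0⟩, ⟨0, 1⟩, ⟨1, 1⟩], ![⟨0, 0⟩, ⟨0, 0⟩, ⟨0, 1⟩, ⟨1, 1⟩], ![⟨0, 0⟩, ⟨0, 0⟩, ⟨0, 1⟩, ⟨1, 1⟩], ![⟨0, 0⟩, ⟨0, 0⟩, ⟨0, 1⟩, ⟨1, 1⟩], ![⟨0, 0⟩, ⟨0, 0⟩, ⟨0, 1⟩, ⟨1, 1⟩], ![⟨0, 0⟩, ⟨0, 0⟩, ⟨0, 1⟩, ⟨1, 1⟩], ![⟨0, 0⟩, ⟨0, 0⟩, ⟨0, 1⟩, ⟨1, 1⟩], ![⟨0, 1⟩, ⟨1, 1⟩, ⟨0, 0⟩, ⟨0, 0⟩]],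
  ![![⟨0, 0⟩, ⟨0, 0⟩, ⟨0, 1⟩, ⟨1, 1⟩], ![⟨0, 0⟩, ⟨0, 0⟩, ⟨0, 1⟩, ⟨1, 1⟩], ![⟨0, 0⟩, ⟨0, 0⟩, ⟨0, 1⟩, ⟨1, 1⟩], ![⟨0, 0⟩, ⟨0, 0⟩, ⟨0, 1⟩, ⟨1, 1⟩], ![⟨0, 0⟩, ⟨0, 0⟩, ⟨0, 1⟩, ⟨1, 1⟩], ![⟨0, 0⟩, ⟨0, 0⟩, ⟨0, 1⟩, ⟨1, 1⟩], ![⟨0, 0⟩, ⟨0, 0⟩, ⟨0, 1⟩, ⟨1, 1⟩], ![⟨0, 0⟩, ⟨0, 0⟩, ⟨0, 1⟩, ⟨1, 1⟩]],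
  ![![⟨0, 0⟩, ⟨0, 0⟩, ⟨0, 1⟩, ⟨1, 1⟩], ![⟨0, 0⟩, ⟨0, 0⟩, ⟨0, 1⟩, ⟨1, 1⟩], ![⟨0, 0⟩, ⟨0, 0⟩, ⟨0, 1⟩, ⟨1, 1⟩], ![⟨0, 0⟩, ⟨0, 0⟩, ⟨0, 1⟩, ⟨1, 1⟩], ![⟨0, 1⟩, ⟨1, 1⟩, ⟨0, 0⟩, ⟨0, 0⟩], ![⟨0, 0⟩, ⟨0, 0⟩, ⟨0, 1⟩, ⟨1, 1⟩], ![⟨0, 0⟩, ⟨0, 0⟩, ⟨0, 1⟩, ⟨1, 1⟩], ![⟨0, 0⟩, ⟨0, 0⟩, ⟨0, 1⟩, ⟨1, 1⟩]],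
  ![![⟨0, 0⟩, ⟨0, 0⟩, ⟨0, 1⟩, ⟨1, 1⟩], ![⟨0, 0⟩, ⟨0, 0⟩, ⟨0, 1⟩, ⟨1, 1⟩], ![⟨0, 0⟩, ⟨0, 0⟩, ⟨0, 1⟩, ⟨1, 1⟩], ![⟨0, 0⟩, ⟨0, 0⟩, ⟨0, 1⟩, ⟨1, 1⟩], ![⟨0, 0⟩, ⟨0, 0⟩, ⟨0, 1⟩, ⟨1, 1⟩], ![⟨0, 0⟩, ⟨0, 0⟩, ⟨0, 1⟩, ⟨1, 1⟩], ![⟨0, 0⟩, ⟨0, 0⟩, ⟨0, 1⟩, ⟨1, 1⟩], ![⟨0, 0⟩, ⟨0, 0⟩, ⟨0, 1⟩, ⟨1, 1⟩]],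
  ![![⟨0, 0⟩, ⟨0, 0⟩, ⟨0, 1⟩, ⟨1, 1⟩], ![⟨0, 0⟩, ⟨0, 0⟩, ⟨0, 1⟩, ⟨1, 1⟩], ![⟨0, 0⟩, ⟨0, 0⟩, ⟨0, 1⟩, ⟨1, 1⟩], ![⟨0, 0⟩, ⟨0, 0⟩, ⟨0, 1⟩, ⟨1, 1⟩], ![⟨0, 0⟩, ⟨0, 0⟩, ⟨0, 1⟩, ⟨1, 1⟩], ![⟨0, 0⟩, ⟨0, 0⟩, ⟨0, 1⟩, ⟨1, 1⟩], ![⟨0, 0⟩, ⟨0, 0⟩, ⟨0, 1⟩, ⟨1, 1⟩], ![⟨0, 0⟩, ⟨0, 0⟩, ⟨0, 1⟩, ⟨1, 1⟩]],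
  ![![⟨0, 0⟩, ⟨0, 0⟩, ⟨0, 1⟩, ⟨1, 1⟩], ![⟨0, 0⟩, ⟨0, 0⟩, ⟨0, 1⟩, ⟨1, 1⟩], ![⟨0, 0⟩, ⟨0, 0⟩, ⟨0, 1⟩, ⟨1, 1⟩], ![⟨0, 0⟩, ⟨0, 0⟩, ⟨0, 1⟩, ⟨1, 1⟩], ![⟨0, 0⟩, ⟨0, 0⟩, ⟨0, 1⟩, ⟨1, 1⟩], ![⟨0, 0⟩, ⟨0, 0⟩, ⟨0, 1⟩, ⟨1, 1⟩], ![⟨0, 0⟩, ⟨0, 0⟩, ⟨0, 1⟩, ⟨1, 1⟩], ![⟨0, 0⟩, ⟨0, 0⟩, ⟨0, 1⟩, ⟨1, 1⟩]],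
  ![![⟨0, 0⟩, ⟨0, 0⟩, ⟨0, 1⟩, ⟨1, 1⟩], ![⟨0, 0⟩, ⟨0, 0⟩, ⟨0, 1⟩, ⟨1, 1⟩], ![⟨0, 0⟩, ⟨0, 0⟩, ⟨0, 1⟩, ⟨1, 1⟩], ![⟨0, 0⟩, ⟨0, 0⟩, ⟨0, 1⟩, ⟨1, 1⟩], ![⟨0, 0⟩, ⟨0, 0⟩, ⟨0, 1⟩, ⟨1, 1⟩], ![⟨0, 0⟩, ⟨0, 0⟩, ⟨0, 1⟩, ⟨1, 1⟩], ![⟨0, 0⟩, ⟨0, 0⟩, ⟨0, 1⟩, ⟨1, 1⟩], ![⟨0, 0⟩, ⟨0, 0⟩, ⟨0, 1⟩, ⟨1, 1⟩]],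
  ![![⟨0, 0⟩, ⟨0, 0⟩, ⟨0, 1⟩, ⟨1, 1⟩], ![⟨0, 0⟩, ⟨0, 0⟩, ⟨0, 1⟩, ⟨1, 1⟩], ![⟨0, 0⟩, ⟨0, 0⟩, ⟨0, 1⟩, ⟨1, 1⟩], ![⟨0, 0⟩, ⟨0, 0⟩, ⟨0, 1⟩, ⟨1, 1⟩], ![⟨0, 0⟩, ⟨0, 0⟩, ⟨0, 1⟩, ⟨1, 1⟩], ![⟨0, 0⟩, ⟨0, 0⟩, ⟨0, 1⟩, ⟨1, 1⟩], ![⟨0, 0⟩, ⟨0, 0⟩, ⟨0, 1⟩, ⟨1, 1⟩], ![⟨0, 0⟩, ⟨0, 0⟩, ⟨0, 1⟩, ⟨1, 1⟩]],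
  ![![⟨0, 0⟩, ⟨0, 0⟩, ⟨0, 1⟩, ⟨1, 1⟩], ![⟨0, 1⟩, ⟨1, 1⟩, ⟨0, 0⟩, ⟨0, 0⟩], ![⟨0, 0⟩, ⟨0, 0⟩, ⟨0, 1⟩, ⟨1, 1⟩], ![⟨0, 0⟩, ⟨0, 0⟩, ⟨0, 1⟩, ⟨1, 1⟩], ![⟨0, 0⟩, ⟨0, 0⟩, ⟨0, 1⟩, ⟨1, 1⟩], ![⟨0, 0⟩, ⟨0, 0⟩, ⟨0, 1⟩, ⟨1, 1⟩], ![⟨0, 0⟩, ⟨0, 0⟩, ⟨0, 1⟩, ⟨1, 1⟩], ![⟨0, 0⟩, ⟨0, 0⟩, ⟨0, 1⟩, ⟨1, 1⟩]],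
  ![![⟨0, 0⟩, ⟨0, 0⟩, ⟨0, 1⟩, ⟨1, 1⟩], ![⟨0, 0⟩, ⟨0, 0⟩, ⟨0, 1⟩, ⟨1, 1⟩], ![⟨0, 0⟩, ⟨0, 0⟩, ⟨0, 1⟩, ⟨1, 1⟩], ![⟨0, 0⟩, ⟨0, 0⟩, ⟨0, 1⟩, ⟨1, 1⟩], ![⟨0, 0⟩, ⟨0, 0⟩, ⟨0, 1⟩, ⟨1, 1⟩], ![⟨0, 0⟩, ⟨0, 0⟩, ⟨0, 1⟩, ⟨1, 1⟩], ![⟨0, 0⟩, ⟨0, 0⟩, ⟨0, 1⟩, ⟨1, 1⟩], ![⟨0, 0⟩, ⟨0, 0⟩, ⟨0, 1⟩, ⟨1, 1⟩]],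
  ![![⟨0, 0⟩, ⟨0, 0⟩, ⟨0, 1⟩, ⟨1, 1⟩], ![⟨0, 0⟩, ⟨0, 0⟩, ⟨0, 1⟩, ⟨1, 1⟩], ![⟨0, 0⟩, ⟨0, 0⟩, ⟨0, 1⟩, ⟨1, 1⟩], ![⟨0, 0⟩, ⟨0, 0⟩, ⟨0, 1⟩, ⟨1, 1⟩], ![⟨0, 0⟩, ⟨0, 0⟩, ⟨0, 1⟩, ⟨1, 1⟩], ![⟨0, 0⟩, ⟨0, 0⟩, ⟨0, 1⟩, ⟨1, 1⟩], ![⟨0, 0⟩, ⟨0, 0⟩, ⟨0, 1⟩, ⟨1, 1⟩], ![⟨0, 0⟩, ⟨0, 0⟩, ⟨0, 1⟩, ⟨1, 1⟩]],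
  ![![⟨0, 0⟩, ⟨0, 0⟩, ⟨0, 1⟩, ⟨1, 1⟩], ![⟨0, 0⟩, ⟨0, 0⟩, ⟨0, 1⟩, ⟨1, 1⟩], ![⟨0, 0⟩, ⟨0, 0⟩, ⟨0, 1⟩, ⟨1, 1⟩], ![⟨0, 0⟩, ⟨0, 0⟩, ⟨0, 1⟩, ⟨1, 1⟩], ![⟨0, 0⟩, ⟨0, 0⟩, ⟨0, 1⟩, ⟨1, 1⟩], ![⟨0, 0⟩, ⟨0, 0⟩, ⟨0, 1⟩, ⟨1, 1⟩], ![⟨0, 0⟩, ⟨0, 0⟩, ⟨0, 1⟩, ⟨1, 1⟩], ![⟨0, 0⟩, ⟨0, 0⟩, ⟨0, 1⟩, ⟨1, 1⟩]],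
  ![![⟨0, 0⟩, ⟨0, 0⟩, ⟨0, 1⟩, ⟨1, 1⟩], ![⟨0, 0⟩, ⟨0, 0⟩, ⟨0, 1⟩, ⟨1, 1⟩], ![⟨0, 0⟩, ⟨0, 0⟩, ⟨0, 1⟩, ⟨1, 1⟩], ![⟨0, 0⟩, ⟨0, 0⟩, ⟨0, 1⟩, ⟨1, 1⟩], ![⟨0, 0⟩, ⟨0, 0⟩, ⟨0, 1⟩, ⟨1, 1⟩], ![⟨0, 0⟩, ⟨0, 0⟩, ⟨0, 1⟩, ⟨1, 1⟩], ![⟨0, 0⟩, ⟨0, 0⟩, ⟨0, 1⟩, ⟨1, 1⟩], ![⟨0, 0⟩, ⟨0, 0⟩, ⟨0, 1⟩, ⟨1, 1⟩]]]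

/-- Separating functionals. -/
def sepVec (i : Fin 112) : Fin 4 → R9 := sepVecChunk ⟨i.1 / 8, by omega⟩ ⟨i.1 % 8, by omega⟩

def treeStepChunk : Fin 14 → Fin 8 → Fin 112 × Bool := ![
  ![(0, false), (0, false), (0, true), (1, false), (1, true), (2, false), (2, true), (3, false)],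
  ![(3, true), (4, false), (4, true), (5, false), (5, true), (6, false), (6, true), (7, false)],
  ![(7, true), (8, false), (8, true), (9, false), (9, true), (10, false), (10, true), (11, false)],
  ![(12, false), (12, true), (13, false), (13, true), (14, false), (14, true), (15, false), (15, true)],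
  ![(16, false), (17, false), (17, true), (18, false), (18, true), (19, false), (19, true), (20, false)],
  ![(20, true), (21, false), (22, false), (22, true), (23, false), (23, true), (24, false), (24, true)],
  ![(25, true), (26, false), (26, true), (27, false), (27, true), (28, false), (28, true), (29, true)],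
  ![(31, false), (31, true), (32, false), (32, true), (33, true), (34, true), (35, false), (36, false)],
  ![(36, true), (37, false), (38, false), (38, true), (39, true), (40, true), (41, false), (42, false)],
  ![(42, true), (43, true), (44, false), (44, true), (45, true), (46, false), (46, true), (48, false)],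
  ![(50, true), (51, false), (51, true), (52, false), (53, true), (54, true), (55, false), (60, false)],
  ![(62, true), (64, false), (65, false), (65, true), (67, false), (68, false), (69, false), (70, false)],
  ![(74, false), (75, false), (76, true), (77, true), (78, true), (79, true), (83, false), (85, false)],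
  ![(85, true), (89, true), (90, false), (93, true), (95, true), (97, true), (102, false), (105, true)]]

/-- A spanning tree. -/
def treeStep (i : Fin 112) : Fin 112 × Bool := treeStepChunk ⟨i.1 / 8, by omega⟩ ⟨i.1 % 8, by omega⟩

def orbPtChunk : Fin 9 → Fin 9 → Fin 112 := ![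
  ![1, 50, 37, 26, 107, 99, 106, 63, 109],
  ![22, 10, 31, 48, 100, 33, 18, 76, 38],
  ![64, 45, 55, 101, 59, 30, 35, 78, 61],
  ![25, 80, 21, 44, 47, 36, 65, 29, 23],
  ![49, 60, 94, 85, 34, 103, 111, 74, 90],
  ![6, 12, 14, 53, 54, 104, 110, 87, 89],
  ![84, 70, 81, 2, 96, 88, 58, 39, 98],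
  ![42, 72, 13, 40, 51, 3, 32, 83, 27],
  ![66, 105, 46, 9, 20, 5, 41, 102, 11]]

/-- An orbit of a point stabiliser. -/
def orbPt (i : Fin 81) : Fin 112 := orbPtChunk ⟨i.1 / 9, by omega⟩ ⟨i.1 % 9, by omega⟩

def orbStepChunk : Fin 9 → Fin 9 → Fin 81 × Bool := ![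
  ![(0, false), (0, false), (0, true), (1, false), (1, true), (2, false), (2, true), (3, false), (3, true)],
  ![(4, false), (4, true), (5, false), (5, true), (6, false), (6, true), (7, false), (7, true), (8, false)],
  ![(8, true), (9, false), (9, true), (10, true), (11, false), (12, false), (12, true), (13, false), (13, true)],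
  ![(14, false), (15, true), (16, true), (17, false), (17, true), (18, false), (18, true), (19, false), (20, false)],
  ![(21, false), (22, false), (23, false), (23, true), (24, true), (25, true), (26, false), (26, true), (27, true)],
  ![(28, true), (29, false), (29, true), (30, false), (30, true), (33, false), (34, false), (34, true), (35, false)],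
  ![(35, true), (36, true), (37, true), (38, true), (40, false), (41, false), (42, false), (42, true), (43, true)],
  ![(44, false), (45, true), (46, false), (48, true), (49, false), (51, true), (56, true), (57, false), (58, false)],
  ![(59, false), (59, true), (62, false), (63, false), (65, true), (71, false), (71, true), (72, true), (74, true)]]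

/-- Its spanning tree. -/
def orbStep (i : Fin 81) : Fin 81 × Bool := orbStepChunk ⟨i.1 / 9, by omega⟩ ⟨i.1 % 9, by omega⟩

/-- A word. -/
def wordA : List Bool := [false, true, true, false, true]

/-- A word. -/
def wordB : List Bool := [true, true, false, true, true, true, false, false]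

/-- A word. -/
def wordC : List Bool := [true, true, false, true, true, true, false, false, true, true, false, true, true, true, false, false, false, true, true, false, true, false, true, true, false, true, true, true, false, true, true, true, false, false, false, true, true, false, true, false, true, true, false, true, false, true, true, false, true]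

def ptFarChunk : Fin 14 → Fin 8 → List ℤ := ![
  ![[2, 0, 2, 0, 2, 2, 2, 0, 0, 0, 2, 2, 0, 0, 0, 0, 0, 0, 0, 0, 0, 0, 0, 2], [2, 0, 0, 2, 0, 0, 2, 0, 0, 0, 0, 2, 0, 0, 0, 0, 0, 2, 2, 0, 0, 2, 0, 2], [2, 0, 0, 0, 2, 0, 2, 0, 0, 0, 0, 0, 0, 2, 0, 2, 0, 0, 0, 0, 2, 2, 0, 2], [2, 0, 2, 2, 0, 0, 2, 0, 0, 0, 0, 0, 2, 0, 0, 0, 2, 0, 0, 0, 2, 0, 0, 2], [2, 0, 0, 2, 0, 0, 0, 0, 2, 0, 0, 0, 0, 0, 2, 2, 0, 0, 2, 0, 2, 0, 0, 2], [2, 0, 0, 2, 0, 0, 0, 0, 0, 2, 2, 2, 2, 0, 2, 0, 0, 0, 0, 0, 0, 0, 0, 2], [2, 0, 0, 0, 2, 2, 0, 0, 0, 2,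 0, 0, 0, 0, 2, 0, 2, 0, 0, 0, 2, 0, 0, 2], [2, 0, 0, 2, 0, 0, 0, 0, 0, 0, 0, 0, 0, 2, 2, 0, 2, 0, 0, 2, 0, 2, 0, 2]],
  ![[1, -1, -1, 1, 1, -1, 1, 1, 1, 1, 1, -1, 1, 1, 1, -1, 1, 1, 1, -1, 1, 1, -1, 3], [2, 0, 2, 0, 0, 0, 0, 2, 2, 0, 2, 0, 0, 0, 2, 0, 2, 0, 0, 0, 0, 0, 0, 2], [2, 0, 0, 0, 0, 2, 0, 0, 2, 2, 2, 0, 0, 0, 0, 0, 0, 2, 2, 0, 0, 0, 0, 2], [2, 0, 0, 0, 2, 0, 2, 0, 2, 0, 0, 0, 0, 0, 0, 0, 2, 0, 2, 2, 0, 0, 0, 2], [1, -1, 1, 1, 1, 1, 1, 1, 1, -1, 1, -1, -1, 1, 1, 1, -1, 1, 1, 1, -1, 1, -1, 3], [2, 0, 0, 0, 2, 0, 0,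 0, 2, 0, 0, 2, 0, 2, 2, 0, 0, 2, 0, 0, 0, 0, 0, 2], [1, -1, 1, -1, 1, 1, 1, 1, 1, 1, 1, -1, 1, -1, -1, 1, 1, 1, -1, 1, 1, 1, -1, 3], [2, 0, 0, 0, 0, 0, 0, 0, 2, 2, 0, 0, 2, 2, 0, 2, 2, 0, 0, 0, 0, 0, 0, 2]],
  ![[1, -1, -1, 1, 1, 1, -1, 1, 1, 1, 1, -1, 1, -1, 1, 1, 1, -1, 1, 1, -1, 1, 1, 3], [1, -1, 1, 1, 1, -1, -1, 1, 1, 1, -1, 1, 1, 1, 1, -1, 1, -1, 1, 1, 1, -1, 1, 3], [1, -1, 1, 1, 1, 1, 1, 1, 1, 1, -1, 1, 1, -1, 1, 1, 1, 1, 1, -1, -1, -1, -1, 3], [2, 0, 0, 0, 0, 0, 0, 2, 2, 0, 0, 0, 0, 2, 0, 0, 0, 0, 2, 0, 0, 2, 2, 2],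 [1, -1, -1, 1, 1, 1, 1, 1, 1, 1, 1, 1, 1, 1, -1, 1, -1, 1, -1, -1, -1, 1, 1, 3], [2, 0, 2, 0, 2, 0, 0, 2, 0, 0, 0, 0, 0, 0, 0, 0, 0, 2, 2, 0, 2, 0, 0, 2], [2, 0, 2, 0, 0, 0, 2, 0, 2, 0, 0, 0, 0, 0, 0, 2, 0, 2, 0, 0, 0, 0, 2, 2], [2, 0, 2, 2, 0, 0, 0, 2, 0, 0, 0, 2, 0, 2, 0, 2, 0, 0, 0, 0, 0, 0, 0, 2]],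
  ![[1, -1, 1, 1, -1, -1, -1, 1, 1, 1, 1, 1, 1, -1, -1, 1, 1, 1, 1, -1, 1, 1, 1, 3], [2, 0, 0, 0, 2, 0, 0, 0, 0, 2, 0, 2, 0, 0, 0, 2, 0, 0, 2, 0, 0, 0, 2, 2], [2, 0, 0, 0, 0, 0, 2, 2, 2, 2, 0, 2, 0, 0, 0, 0, 0, 0, 0, 0, 2, 0, 0, 2], [2, 0, 0, 2, 0, 2, 2, 0, 0, 2, 0, 0, 0, 0, 0, 2, 0, 0, 0, 2, 0, 0, 0, 2], [1, -1, -1, 1, 1, -1, -1, 1, -1, -1, 1, 1, 1, 1, 1, 1, -1, 1, 1, 1, 1, 1, 1, 3], [1, -1, 1, -1, 1, -1, 1, 1, -1, 1, 1, 1, 1, 1, 1, 1, 1, 1, -1, -1, 1, -1, 1, 3], [2, 0, 0, 0, 2, 0, 0, 2, 0, 2, 2, 0, 0, 2, 0, 0, 0, 0, 0,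 2, 0, 0, 0, 2], [1, -1, 1, 1, 1, 1, 1, -1, 1, 1, 1, -1, 1, 1, 1, -1, 1, 1, -1, 1, -1, -1, 1, 3]],
  ![[1, -1, 1, -1, 1, 1, -1, 1, 1, -1, 1, 1, 1, 1, -1, 1, 1, 1, 1, 1, -1, -1, 1, 3], [1, -1, 1, -1, 1, 1, 1, 1, 1, 1, -1, 1, -1, 1, 1, 1, 1, -1, -1, 1, -1, 1, 1, 3], [1, -1, 1, 1, -1, 1, 1, 1, 1, 1, 1, 1, 1, 1, -1, -1, 1, -1, 1, 1, -1, 1, -1, 3], [1, -1, 1, 1, 1, -1, 1, 1, 1, -1, 1, 1, -1, 1, -1, -1, 1, 1, -1, 1, 1, 1, 1, 3], [1, -1, 1, 1, 1, -1, 1, -1, 1, 1, 1, 1, 1, 1, -1, 1, -1, 1, 1, 1, 1, -1, -1, 3], [2, 0, 2, 0, 0, 2, 0,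 2, 0, 2, 0, 0, 2, 0, 0, 0, 0, 0, 0, 0, 0, 0, 2, 2], [2, 0, 0, 2, 0, 2, 0, 0, 2, 0, 0, 2, 0, 0, 0, 0, 2, 0, 0, 0, 0, 0, 2, 2], [1, -1, -1, 1, 1, 1, 1, 1, -1, 1, 1, 1, 1, -1, -1, -1, 1, 1, 1, 1, 1, -1, 1, 3]],
  ![[1, -1, 1, 1, 1, 1, 1, -1, -1, -1, -1, 1, -1, 1, 1, 1, 1, 1, 1, 1, 1, -1, 1, 3], [2, 0, 2, 0, 0, 0, 0, 0, 0, 0, 0, 2, 0, 0, 2, 0, 0, 0, 0, 0, 2, 2, 2, 2], [2, 0, 0, 2, 0, 2, 0, 2, 0, 0, 2, 0, 0, 0, 0, 0, 0, 0, 0, 0, 2, 2, 0, 2], [2, 0, 0, 2, 0, 0, 0, 0, 0, 2, 0, 0, 0, 2, 0, 0, 0, 2, 0, 0, 2, 0, 2, 2], [2, 0, 0, 0,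 0, 0, 2, 0, 0, 2, 2, 0, 0, 0, 0, 0, 2, 0, 0, 0, 0, 2, 2, 2], [1, -1, -1, 1, 1, 1, 1, -1, 1, 1, 1, 1, -1, 1, 1, -1, -1, -1, 1, 1, 1, 1, 1, 3], [1, -1, 1, -1, 1, 1, 1, 1, -1, -1, 1, -1, 1, 1, 1, -1, 1, -1, 1, 1, 1, 1, 1, 3], [1, -1, 1, 1, -1, 1, 1, 1, 1, -1, 1, 1, 1, 1, 1, -1, -1, 1, 1, -1, 1, -1, 1, 3]],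
  ![[2, 0, 2, 0, 0, 2, 0, 0, 2, 0, 0, 0, 0, 2, 0, 0, 0, 0, 0, 2, 2, 0, 0, 2], [2, 0, 0, 2, 2, 0, 2, 2, 0, 0, 0, 0, 0, 0, 2, 0, 0, 0, 0, 0, 0, 0, 2, 2], [1, -1, 1, 1, -1, 1, 1, -1, 1, 1, 1, 1, -1, 1, 1, 1, 1, 1, -1, -1, 1, 1, -1, 3], [2, 0, 0, 2, 2, 0, 0, 0, 0, 0, 2, 0, 0, 0, 0, 2, 2, 2, 0, 0, 0, 0, 0, 2], [1, -1, 1, -1, 1, -1, -1, -1, 1, 1, 1, -1, -1, 1, 1, 1, 1, 1, 1, 1, 1, 1, 1, 3], [1, -1, 1, -1, -1, 1, 1, -1, 1, 1, 1, 1, 1, -1, 1, 1, 1, -1, 1, 1, 1, -1, 1, 3], [2, 0, 0, 0, 0, 2, 0, 2, 0, 0, 0, 2, 0, 0, 2, 0, 0, 0, 2,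 2, 0, 0, 0, 2], [1, -1, 1, 1, 1, 1, 1, 1, -1, 1, -1, 1, 1, 1, 1, -1, -1, 1, -1, 1, 1, 1, -1, 3]],
  ![[1, -1, -1, 1, 1, 1, -1, 1, 1, 1, -1, 1, -1, 1, -1, 1, 1, 1, 1, 1, 1, 1, -1, 3], [1, -1, 1, 1, 1, -1, 1, 1, -1, 1, -1, -1, 1, 1, -1, 1, 1, 1, 1, 1, -1, 1, 1, 3], [1, -1, 1, -1, -1, 1, 1, 1, -1, 1, 1, 1, -1, 1, -1, 1, -1, 1, 1, 1, 1, 1, 1, 3], [2, 0, 0, 0, 0, 0, 2, 0, 0, 0, 0, 2, 2, 2, 0, 0, 0, 0, 0, 2, 0, 0, 2, 2], [1, -1, 1, 1, 1, 1, -1, -1, -1, 1, 1, 1, 1, 1, -1, 1, 1, -1, -1, 1, 1, 1, 1, 3], [1, -1, 1, 1, 1, -1, 1, -1,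 1, -1, 1, 1, 1, 1, 1, 1, 1, -1, 1, -1, -1, 1, 1, 3], [1, -1, -1, 1, -1, 1, 1, 1, -1, 1, -1, 1, 1, 1, 1, 1, 1, -1, 1, -1, 1, 1, 1, 3], [1, -1, 1, 1, 1, -1, 1, 1, -1, 1, 1, 1, -1, -1, 1, 1, 1, -1, 1, 1, 1, 1, -1, 3]],
  ![[2, 0, 2, 0, 0, 0, 2, 0, 0, 2, 0, 0, 0, 2, 2, 0, 0, 0, 2, 0, 0, 0, 0, 2], [2, 0, 0, 0, 2, 2, 0, 0, 0, 0, 0, 0, 0, 0, 0, 0, 0, 2, 0, 2, 0, 2, 2, 2], [2, 0, 0, 0, 0, 2, 2, 2, 0, 0, 0, 0, 0, 2, 0, 0, 2, 2, 0, 0, 0, 0, 0, 2], [1, -1, -1, 1, -1, 1, 1, -1, 1, -1, 1, -1, 1, 1, -1, 1, 1, 1, 1, 1, 1, 1, 1, 3], [1,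 -1, 1, -1, -1, -1, 1, 1, 1, -1, -1, 1, 1, 1, 1, 1, 1, 1, 1, 1, 1, 1, -1, 3], [2, 0, 0, 0, 0, 0, 0, 0, 0, 2, 0, 0, 2, 0, 0, 0, 0, 0, 2, 2, 2, 2, 0, 2], [2, 0, 0, 0, 0, 2, 2, 0, 2, 0, 0, 0, 2, 0, 2, 0, 0, 0, 0, 0, 0, 2, 0, 2], [2, 0, 0, 0, 0, 0, 0, 0, 0, 0, 0, 0, 2, 0, 2, 0, 2, 2, 2, 0, 0, 0, 2, 2]],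
  ![[1, -1, -1, -1, 1, 1, 1, 1, 1, -1, 1, 1, -1, -1, 1, 1, 1, 1, 1, -1, 1, 1, 1, 3], [1, -1, 1, 1, -1, 1, 1, 1, 1, 1, -1, -1, -1, -1, 1, -1, 1, 1, 1, 1, 1, 1, 1, 3], [2, 0, 0, 2, 2, 2, 0, 0, 0, 0, 0, 0, 2, 2, 0, 0, 0, 0, 2, 0, 0, 0, 0, 2], [1, -1, 1, 1, 1, 1, -1, 1, 1, -1, -1, -1, 1, 1, 1, 1, 1, 1, -1, -1, 1, 1, 1, 3], [2, 0, 2, 0, 0, 2, 0, 0, 0, 0, 0, 0, 0, 0, 0, 2, 2, 0, 2, 0, 0, 2, 0, 2], [1, -1, 1, 1, -1, 1, -1, -1, 1, 1, -1, 1, 1, 1, 1, 1, -1, 1, 1, 1, -1, 1, 1, 3], [2, 0, 0, 0, 2, 0, 0, 2, 0, 0, 0, 2, 2, 0, 0, 0, 2,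 0, 0, 0, 0, 2, 0, 2], [2, 0, 0, 0, 0, 0, 0, 2, 0, 2, 0, 0, 0, 0, 2, 2, 0, 2, 0, 0, 0, 2, 0, 2]],
  ![[1, -1, 1, 1, 1, 1, 1, -1, -1, 1, 1, -1, 1, -1, 1, 1, -1, 1, 1, -1, 1, 1, 1, 3], [2, 0, 0, 0, 0, 0, 0, 0, 0, 0, 2, 2, 0, 2, 0, 0, 2, 0, 2, 0, 2, 0, 0, 2], [1, -1, -1, -1, 1, 1, 1, 1, 1, 1, -1, -1, 1, 1, 1, 1, -1, 1, 1, 1, 1, -1, 1, 3], [1, -1, 1, -1, 1, 1, -1, 1, 1, 1, 1, 1, 1, 1, 1, 1, -1, -1, 1, -1, 1, 1, -1, 3], [2, 0, 2, 0, 0, 0, 0, 0, 0, 0, 2, 0, 2, 2, 0, 0, 0, 2, 0, 0, 0, 2, 0, 2], [2, 0, 0, 0, 0, 0, 0, 0, 2, 0, 2, 2,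 0, 0, 0, 2, 0, 0, 0, 2, 0, 2, 0, 2], [1, -1, -1, 1, 1, -1, 1, -1, 1, 1, -1, 1, 1, -1, 1, 1, 1, 1, -1, 1, 1, 1, 1, 3], [1, -1, -1, -1, 1, 1, 1, -1, -1, 1, 1, 1, 1, 1, 1, 1, 1, 1, 1, 1, -1, 1, -1, 3]],
  ![[1, -1, 1, 1, 1, 1, -1, -1, 1, -1, 1, 1, 1, -1, 1, -1, 1, 1, 1, 1, 1, 1, -1, 3], [2, 0, 2, 2, 2, 0, 0, 0, 2, 2, 0, 0, 0, 0, 0, 0, 0, 0, 0, 0, 0, 2, 0, 2], [2, 0, 0, 0, 0, 2, 0, 0, 0, 0, 0, 2, 2, 0, 0, 2, 0, 2, 0, 0, 2, 0, 0, 2], [2, 0, 0, 0, 0, 0, 0, 2, 0, 0, 0, 0, 0, 0, 0, 2, 2, 0, 0, 2, 2, 0, 2, 2], [1, -1, 1, 1, -1, 1,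 -1, 1, -1, 1, 1, -1, 1, 1, 1, 1, 1, 1, 1, 1, 1, -1, -1, 3], [1, -1, 1, 1, -1, -1, 1, 1, 1, 1, 1, -1, 1, 1, 1, 1, -1, -1, -1, 1, 1, 1, 1, 3], [2, 0, 2, 0, 2, 0, 0, 0, 0, 0, 0, 0, 2, 0, 2, 2, 0, 0, 0, 2, 0, 0, 0, 2], [2, 0, 0, 2, 0, 0, 0, 2, 2, 0, 0, 0, 2, 0, 0, 0, 0, 2, 0, 2, 0, 0, 0, 2]],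
  ![[2, 0, 2, 0, 0, 0, 0, 0, 0, 2, 0, 2, 0, 0, 0, 0, 2, 2, 0, 2, 0, 0, 0, 2], [1, -1, -1, -1, -1, 1, -1, 1, 1, 1, 1, 1, 1, 1, 1, -1, 1, 1, -1, 1, 1, 1, 1, 3], [2, 0, 0, 0, 2, 0, 0, 0, 2, 0, 2, 0, 2, 0, 0, 0, 0, 0, 0, 0, 2, 0, 2, 2], [2, 0, 2, 2, 0, 0, 0, 0, 0, 0, 2, 0, 0, 0, 0, 0, 0, 0, 2, 2, 0, 0, 2, 2], [1, -1, -1, 1, 1, 1, 1, 1, 1, -1, 1, 1, 1, 1, 1, 1, 1, -1, -1, 1, 1, -1, -1, 3], [1, -1, 1, 1, 1, 1, -1, 1, 1, 1, 1, 1, -1, -1, 1, 1, -1, 1, -1, 1, 1, -1, 1, 3], [1, -1, 1, -1, 1, -1, 1, 1, 1, 1, 1, 1, 1, -1, 1, -1, -1,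 1, 1, 1, -1, 1, 1, 3], [2, 0, 0, 0, 0, 0, 2, 2, 0, 0, 2, 0, 2, 0, 0, 2, 0, 0, 2, 0, 0, 0, 0, 2]],
  ![[2, 0, 0, 0, 0, 2, 0, 0, 0, 0, 2, 0, 0, 2, 2, 2, 0, 0, 0, 0, 0, 0, 2, 2], [1, -1, 1, 1, 1, 1, 1, 1, 1, 1, 1, -1, -1, 1, -1, 1, 1, -1, 1, -1, 1, -1, 1, 3], [2, 0, 0, 0, 0, 0, 2, 0, 0, 0, 2, 0, 0, 0, 2, 0, 0, 2, 0, 2, 2, 0, 0, 2], [1, -1, 1, 1, 1, 1, -1, 1, -1, 1, 1, 1, -1, 1, 1, -1, 1, 1, 1, -1, -1, 1, 1, 3], [1, -1, -1, 1, -1, -1, 1, 1, 1, 1, 1, 1, -1, 1, 1, 1, 1, 1, 1, 1, -1, -1, 1, 3], [1, -1, 1, 1, -1, 1, 1, 1, -1, -1,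 1, 1, 1, -1, 1, 1, 1, 1, -1, 1, -1, 1, 1, 3], [1, -1, 1, 1, 1, 1, 1, 1, 1, -1, -1, 1, 1, -1, -1, 1, -1, -1, 1, 1, 1, 1, 1, 3], [1, -1, 1, -1, 1, 1, 1, -1, 1, 1, -1, 1, 1, 1, -1, -1, 1, 1, 1, -1, 1, 1, 1, 3]]]

/-- The points with product 8. -/
def ptFar (i : Fin 112) : List ℤ := ptFarChunk ⟨i.1 / 8, by omega⟩ ⟨i.1 % 8, by omega⟩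

/-- The third vector. -/
def xList : List ℤ := [0, 4, 0, 0, 0, 0, 0, 0, 0, 0, 0, 0, 0, 0, 0, 0, 0, 0, 0, 0, 0, 0, 0, 4]

def tabA : List ℕ := [12, 2, 8, 15, 13, 9, 14, 19, 3, 18, 11, 6, 17, 20, 22, 23, 10, 4, 21, 5, 0, 7, 16, 1]

def tabAInv : List ℕ := [20, 23, 1, 8, 17, 19, 11, 21, 2, 5, 16, 10, 0, 4, 6, 3, 22, 12, 9, 7, 13, 18, 14, 15]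

def tabB : List ℕ := [23, 15, 0, 19, 4, 17, 6, 14, 20, 3, 12, 9, 2, 8, 13, 22, 7, 18, 10, 16, 21, 11, 5, 1]

def tabBInv : List ℕ := [2, 23, 12, 9, 4, 22, 6, 16, 13, 11, 18, 21, 10, 14, 7, 1, 19, 5, 17, 3, 8, 20, 15, 0]

def tabC : List ℕ := [8, 0, 20, 11, 21, 16, 6, 18, 3, 23, 4, 9, 5, 15, 19, 10, 2, 14, 1, 17, 22, 13, 7, 12]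

def tabCInv : List ℕ := [1, 18, 16, 8, 10, 12, 6, 22, 0, 11, 15, 3, 23, 21, 17, 13, 5, 19, 7, 14, 2, 4, 20, 9]

def tabR : List ℕ := [0, 1, 21, 16, 11, 17, 3, 22, 7, 4, 18, 6, 19, 9, 8, 10, 13, 20, 2, 15, 14, 12, 5, 23]

def tabRInv : List ℕ := [0, 1, 18, 6, 9, 22, 11, 8, 14, 13, 15, 4, 21, 16, 20, 19, 3, 5, 10, 12, 17, 2, 7, 23]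

end CfsgLib.McLUnit
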